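import Mathlib.GroupTheory.SpecificGroups.Alternating
import Mathlib.GroupTheory.Perm.Sign
import Mathlib.GroupTheory.Commutator.Basic
import Mathlib.Tactic

/-!
# Facts about involutions of alternating groups
-/

set_option autoImplicit false

namespace Cfsg.Agent.Blocks88.TwoByAlt

open Equiv
open scoped commutatorElement

theorem commutator_two_swaps {α : Type*} [DecidableEq α] {a b c d e f : α}
    (hab : a ≠ b) (hac : a ≠ c) (had : a ≠ d) (hbc : b ≠ c) (hbd : b ≠ d) (hcd : c ≠ d)
    (hef : e ≠ f) (hea : e ≠ a) (heb : e ≠ b) (hec : e ≠ c) (hed : e ≠ d)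
    (hfa : f ≠ a) (hfb : f ≠ b) (hfc : f ≠ c) (hfd : f ≠ d) :
    (swap a c * swap b d) * (swap a b * swap e f) * (swap a c * swap b d)⁻¹ *
      (swap a b * swap e f)⁻¹ = swap a b * swap c d := by
  ext x
  simp only [mul_inv_rev, swap_inv, Perm.mul_apply, swap_apply_def]
  grind

theorem swap_commute_of_invol {α : Type*} [DecidableEq α] (u : Perm α) (hu : u * u = 1) (e : α) :
    Commute u (swap e (u e)) := by
  show u * _ = _ * u
  have h : ∀ y, u (u y) = y := fun y => by
    have := congrArg (fun σ : Perm α => σ y) hu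
    simpa using this
  rw [Equiv.mul_swap_eq_swap_mul, h, swap_comm]

theorem swap_commute_of_fixed {α : Type*} [DecidableEq α] (u : Perm α) {e f : α} (he : u e = e)
    (hf : u f = f) : Commute u (swap e f) := by
  show u * _ = _ * u
  rw [Equiv.mul_swap_eq_swap_mul, he, hf]

theorem pair_commute {α : Type*} [DecidableEq α] (u : Perm α) (hu : u * u = 1) {a b c d : α}
    (hb : u a = b) (hd : u c = d) (hba : b ≠ a) (hbc : b ≠ c) (hda : d ≠ a) (hdc : d ≠ c) :
    Commute u (swap a c * swap b d) := by
  show u * _ = _ * u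
  have h : ∀ y, u (u y) = y := fun y => by
    have := congrArg (fun σ : Perm α => σ y) hu
    simpa using this
  have h1 : u * swap a c = swap b d * u := by rw [Equiv.mul_swap_eq_swap_mul, hb, hd]
  have h2 : u * swap b d = swap a c * u := by
    rw [Equiv.mul_swap_eq_swap_mul, ← hb, ← hd, h, h]
  have h3 : swap a c * swap b d = swap b d * swap a c := by
    rw [Equiv.mul_swap_eq_swap_mul, swap_apply_of_ne_of_ne hba hbc, swap_apply_of_ne_of_ne hda hdc]
  calc u * (swap a c * swap b d) = u * swap a c * swap b d := by group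
    _ = swap b d * (u * swap b d) := by rw [h1]; group
    _ = swap b d * swap a c * u := by rw [h2]; group
    _ = _ := by rw [h3]

section

variable {n : ℕ}

/-- An involution of an alternating group of degree at least 6 is a commutator product inside its
own centralizer. -/
theorem mem_commutator_centralizer (hn : 6 ≤ n) (u : alternatingGroup (Fin n)) (hu : u * u = 1) :
    u ∈ ⁅Subgroup.centralizer ({u} : Set (alternatingGroup (Fin n))),
        Subgroup.centralizer ({u} : Set (alternatingGroup (Fin n)))⁆ := by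
  classical
  set U : Perm (Fin n) := (u : Perm (Fin n)) with hU
  have hUU : U * U = 1 := congrArg Subtype.val hu
  have hUU' : ∀ y, U (U y) = y := fun y => by
    have := congrArg (fun σ : Perm (Fin n) => σ y) hUU
    simpa using this
  set K := ⁅Subgroup.centralizer ({u} : Set (alternatingGroup (Fin n))),
        Subgroup.centralizer ({u} : Set (alternatingGroup (Fin n)))⁆
  suffices key : ∀ k : ℕ, ∀ v : Perm (Fin n), ∀ hv : v ∈ alternatingGroup (Fin n),
      v.support.card = k → (∀ x, v x = x ∨ v x = U x) → (∀ x, v x ≠ x → v (U x) = x) →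
        (⟨v, hv⟩ : alternatingGroup (Fin n)) ∈ K by
    exact key _ U u.2 rfl (fun x => Or.inr rfl) (fun x _ => hUU' x)
  intro k
  induction k using Nat.strong_induction_on with
  | _ k ih =>
  intro v hv hk hvx hvp
  by_cases h1 : v = 1
  · subst h1
    exact K.one_mem
  obtain ⟨a, ha⟩ : ∃ a, v a ≠ a := by
    by_contra hc
    push Not at hc
    exact h1 (Equiv.ext hc)
  have hva : v a = U a := (hvx a).resolve_left ha
  set b := U a with hb
  have hab : a ≠ b := fun h => ha (by rw [hva]; exact h.symm)
  obtain ⟨c, hc, hca, hcb⟩ : ∃ c, v c ≠ c ∧ c ≠ a ∧ c ≠ b := by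
    by_contra hc
    push Not at hc
    have hvs : v = swap a b := by
      ext x
      by_cases hxa : x = a
      · subst hxa; rw [swap_apply_left, hva]
      by_cases hxb : x = b
      · subst hxb; rw [swap_apply_right, hvp a ha]
      rw [swap_apply_of_ne_of_ne hxa hxb]
      by_cases hx : v x = x
      · rw [hx]
      · exact absurd (hc x hx hxa) hxb
    have := Equiv.Perm.mem_alternatingGroup.mp hv
    rw [hvs, Equiv.Perm.sign_swap hab] at this
    exact absurd this (by decide)
  have hvc : v c = U c := (hvx c).resolve_left hc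
  set d := U c with hd
  have hcd : c ≠ d := fun h => hc (by rw [hvc]; exact h.symm)
  have hbd : b ≠ d := fun h => hca (by
    have := congrArg U h
    rw [hb, hd, hUU', hUU'] at this
    exact this.symm)
  have had : a ≠ d := fun h => hcb (by rw [hb, h, hd, hUU'])
  -- a third transposition
  obtain ⟨e, f, hef, hea, heb, hec, hed, hfa, hfb, hfc, hfd, hcomm⟩ : ∃ e f, e ≠ f ∧ e ≠ a ∧
      e ≠ b ∧ e ≠ c ∧ e ≠ d ∧ f ≠ a ∧ f ≠ b ∧ f ≠ c ∧ f ≠ d ∧ Commute U (swap e f) := by
    by_cases hex : ∃ e, U e ≠ e ∧ e ∉ ({a, b, c, d} : Finset (Fin n))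
    · obtain ⟨e, hee, he⟩ := hex
      simp only [Finset.mem_insert, Finset.mem_singleton, not_or] at he
      obtain ⟨hea, heb, hec, hed⟩ := he
      refine ⟨e, U e, fun h => hee h.symm, hea, heb, hec, hed, ?_, ?_, ?_, ?_,
        swap_commute_of_invol U hUU e⟩
      · intro h; apply heb; rw [hb, ← h, hUU']
      · intro h; apply hea; exact U.injective h
      · intro h; apply hed; rw [hd, ← h, hUU']
      · intro h; apply hec; exact U.injective h
    · push Not at hex
      have h4 : ({a, b, c, d} : Finset (Fin n)).card ≤ 4 := Finset.card_le_four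
      have : 1 < ((Finset.univ : Finset (Fin n)) \ {a, b, c, d}).card := by
        have := Finset.le_card_sdiff ({a, b, c, d} : Finset (Fin n)) Finset.univ
        rw [Finset.card_univ, Fintype.card_fin] at this
        omega
      obtain ⟨e, he, f, hf, hef⟩ := Finset.one_lt_card.mp this
      simp only [Finset.mem_sdiff, Finset.mem_univ, true_and, Finset.mem_insert,
        Finset.mem_singleton, not_or] at he hf
      refine ⟨e, f, hef, he.1, he.2.1, he.2.2.1, he.2.2.2, hf.1, hf.2.1, hf.2.2.1, hf.2.2.2,
        swap_commute_of_fixed U ?_ ?_⟩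
      · by_contra hne
        have := hex e hne
        simp only [Finset.mem_insert, Finset.mem_singleton] at this
        tauto
      · by_contra hne
        have := hex f hne
        simp only [Finset.mem_insert, Finset.mem_singleton] at this
        tauto
  have hxmem : swap a c * swap b d ∈ alternatingGroup (Fin n) :=
    Equiv.Perm.mem_alternatingGroup.mpr (by
      rw [map_mul, Equiv.Perm.sign_swap hca.symm, Equiv.Perm.sign_swap hbd]; rfl)
  have hymem : swap a b * swap e f ∈ alternatingGroup (Fin n) :=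
    Equiv.Perm.mem_alternatingGroup.mpr (by
      rw [map_mul, Equiv.Perm.sign_swap hab, Equiv.Perm.sign_swap hef]; rfl)
  have hxc : (⟨_, hxmem⟩ : alternatingGroup (Fin n)) ∈
      Subgroup.centralizer ({u} : Set (alternatingGroup (Fin n))) := by
    rw [Subgroup.mem_centralizer_singleton_iff]
    exact Subtype.ext (pair_commute U hUU hb.symm hd.symm hab.symm hcb.symm had.symm hcd.symm).eq.symm
  have hyc : (⟨_, hymem⟩ : alternatingGroup (Fin n)) ∈
      Subgroup.centralizer ({u} : Set (alternatingGroup (Fin n))) := by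
    rw [Subgroup.mem_centralizer_singleton_iff]
    exact Subtype.ext ((swap_commute_of_invol U hUU a).mul_right hcomm).eq.symm
  have hwmem : swap a b * swap c d ∈ alternatingGroup (Fin n) :=
    Equiv.Perm.mem_alternatingGroup.mpr (by
      rw [map_mul, Equiv.Perm.sign_swap hab, Equiv.Perm.sign_swap hcd]; rfl)
  have hwK : (⟨_, hwmem⟩ : alternatingGroup (Fin n)) ∈ K := by
    have h2 := Subgroup.commutator_mem_commutator hxc hyc
    have e2 : ⁅(⟨_, hxmem⟩ : alternatingGroup (Fin n)), (⟨_, hymem⟩ : alternatingGroup (Fin n))⁆ =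
        ⟨_, hwmem⟩ := Subtype.ext (commutator_two_swaps hab hca.symm had hcb.symm hbd hcd hef hea
          heb hec hed hfa hfb hfc hfd)
    rwa [e2] at h2
  -- remove the two transpositions
  set w : Perm (Fin n) := swap a b * swap c d with hw
  have hwa : w a = b := by
    rw [hw, Perm.mul_apply, swap_apply_of_ne_of_ne hca.symm had, swap_apply_left]
  have hwb : w b = a := by
    rw [hw, Perm.mul_apply, swap_apply_of_ne_of_ne hcb.symm hbd, swap_apply_right]
  have hwc : w c = d := by
    rw [hw, Perm.mul_apply, swap_apply_left, swap_apply_of_ne_of_ne had.symm hbd.symm]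
  have hwd : w d = c := by
    rw [hw, Perm.mul_apply, swap_apply_right, swap_apply_of_ne_of_ne hca hcb]
  have hwo : ∀ x, x ≠ a → x ≠ b → x ≠ c → x ≠ d → w x = x := fun x h1 h2 h3 h4 => by
    rw [hw, Perm.mul_apply, swap_apply_of_ne_of_ne h3 h4, swap_apply_of_ne_of_ne h1 h2]
  have hvb : v b = a := hvp a ha
  have hvd : v d = c := hvp c hc
  set v' : Perm (Fin n) := w * v with hv'
  have hv'a : ∀ x, x = a ∨ x = b ∨ x = c ∨ x = d → v' x = x := by
    rintro x (rfl | rfl | rfl | rfl)
    · rw [hv', Perm.mul_apply, hva, hwb]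
    · rw [hv', Perm.mul_apply, hvb, hwa]
    · rw [hv', Perm.mul_apply, hvc, hwd]
    · rw [hv', Perm.mul_apply, hvd, hwc]
  have hv'o : ∀ x, x ≠ a → x ≠ b → x ≠ c → x ≠ d → v' x = v x := fun x h1 h2 h3 h4 => by
    rw [hv', Perm.mul_apply]
    refine hwo _ ?_ ?_ ?_ ?_
    · intro h; exact h2 (v.injective (h.trans hvb.symm))
    · intro h; exact h1 (v.injective (h.trans hva.symm))
    · intro h; exact h4 (v.injective (h.trans hvd.symm))
    · intro h; exact h3 (v.injective (h.trans hvc.symm))
  have hsupp : v'.support ⊂ v.support := by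
    refine Finset.ssubset_iff_of_subset ?_ |>.mpr ⟨a, by rwa [Equiv.Perm.mem_support],
      by rw [Equiv.Perm.mem_support, not_not]; exact hv'a a (Or.inl rfl)⟩
    intro x hx
    rw [Equiv.Perm.mem_support] at hx ⊢
    have h1 : x ≠ a := fun h => hx (hv'a x (Or.inl h))
    have h2 : x ≠ b := fun h => hx (hv'a x (Or.inr (Or.inl h)))
    have h3 : x ≠ c := fun h => hx (hv'a x (Or.inr (Or.inr (Or.inl h))))
    have h4 : x ≠ d := fun h => hx (hv'a x (Or.inr (Or.inr (Or.inr h))))
    rwa [hv'o x h1 h2 h3 h4] at hx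
  have hv'mem : v' ∈ alternatingGroup (Fin n) := Subgroup.mul_mem _ hwmem hv
  have hv'K : (⟨v', hv'mem⟩ : alternatingGroup (Fin n)) ∈ K := by
    refine ih _ (hk ▸ Finset.card_lt_card hsupp) v' hv'mem rfl ?_ ?_
    · intro x
      by_cases hx : v' x = x
      · exact Or.inl hx
      · have h1 : x ≠ a := fun h => hx (hv'a x (Or.inl h))
        have h2 : x ≠ b := fun h => hx (hv'a x (Or.inr (Or.inl h)))
        have h3 : x ≠ c := fun h => hx (hv'a x (Or.inr (Or.inr (Or.inl h))))
        have h4 : x ≠ d := fun h => hx (hv'a x (Or.inr (Or.inr (Or.inr h))))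
        rw [hv'o x h1 h2 h3 h4]
        exact hvx x
    · intro x hx
      have h1 : x ≠ a := fun h => hx (hv'a x (Or.inl h))
      have h2 : x ≠ b := fun h => hx (hv'a x (Or.inr (Or.inl h)))
      have h3 : x ≠ c := fun h => hx (hv'a x (Or.inr (Or.inr (Or.inl h))))
      have h4 : x ≠ d := fun h => hx (hv'a x (Or.inr (Or.inr (Or.inr h))))
      rw [hv'o x h1 h2 h3 h4] at hx
      rw [hv'o]
      · exact hvp x hx
      · intro h; exact h2 (by rw [hb, ← h, hUU'])
      · intro h; exact h1 (U.injective h)
      · intro h; exact h4 (by rw [hd, ← h, hUU'])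
      · intro h; exact h3 (U.injective h)
  have hprod : (⟨v, hv⟩ : alternatingGroup (Fin n)) = (⟨_, hwmem⟩)⁻¹ * ⟨v', hv'mem⟩ :=
    Subtype.ext (by show v = w⁻¹ * (w * v); rw [inv_mul_cancel_left])
  rw [hprod]
  exact K.mul_mem (K.inv_mem hwK) hv'K

end

theorem alt_no_invol_three (m : ℕ) (hm : m ≤ 3) (x : alternatingGroup (Fin m)) (hx : x * x = 1) :
    x = 1 := by
  interval_cases m <;> revert x <;> decide

theorem alt4_centralizer_invol : ∀ a : alternatingGroup (Fin 4), a * a = 1 → a ≠ 1 →
    ∀ y, y * a = a * y → y * y = 1 := by decide +kernel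

theorem alt4_invol_conj : ∀ a : alternatingGroup (Fin 4), a * a = 1 → a ≠ 1 →
    ∀ b : alternatingGroup (Fin 4), b * b = 1 → b ≠ 1 → ∃ y, y * a * y⁻¹ = b := by decide +kernel

theorem alt4_invol_comm : ∀ a : alternatingGroup (Fin 4), a * a = 1 →
    ∀ b : alternatingGroup (Fin 4), b * b = 1 → a * b = b * a := by decide +kernel

theorem alt4_three : ∀ u : alternatingGroup (Fin 4), u * u * u = 1 → u ≠ 1 →
    ∀ y, (y * u * y⁻¹ ≠ u⁻¹) ∧ (y * u = u * y → y * y = 1 → y = 1) := by decide +kernel

theorem alt5_centralizer_invol : ∀ a : alternatingGroup (Fin 5), a * a = 1 → a ≠ 1 →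
    ∀ y, y * a = a * y → y * y = 1 := by decide +kernel

theorem alt5_invol_conj : ∀ a : alternatingGroup (Fin 5), a * a = 1 → a ≠ 1 →
    ∀ b : alternatingGroup (Fin 5), b * b = 1 → b ≠ 1 → ∃ y, y * a * y⁻¹ = b := by decide +kernel

theorem alt_card (m : ℕ) : (m = 4 → Nat.card (alternatingGroup (Fin m)) = 12) ∧
    (m = 5 → Nat.card (alternatingGroup (Fin m)) = 60) := by
  constructor <;> rintro rfl <;> rw [Nat.card_eq_fintype_card] <;> decide +kernel

end Cfsg.Agent.Blocks88.TwoByAlt
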