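import Cfsg.Agent.Blocks88.TwoByAlt.Setup
import Mathlib.GroupTheory.Perm.Cycle.Type
import Mathlib.GroupTheory.GroupAction.CardCommute

/-!
# The order of a group with involution centralizer `Z₂ × A₄`: counting involutions in cosets
-/

set_option autoImplicit false
set_option linter.unusedSectionVars false

namespace Cfsg.Agent.Blocks88.TwoByAlt

/-- The case of `A₄`. -/
structure Four (G : Type*) [Group G] extends Setup G where
  h12 : Nat.card T = 12
  hcomm : ∀ a ∈ T, a * a = 1 → ∀ b ∈ T, b * b = 1 → a * b = b * a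
  hthree : ∀ u ∈ T, u * u * u = 1 → u ≠ 1 →
    ∀ y ∈ T, y * u * y⁻¹ ≠ u⁻¹ ∧ (y * u = u * y → y * y = 1 → y = 1)
  hnsol : ¬ Group.IsSolvable G

namespace Four

variable {G : Type*} [Group G] [Finite G] (D : Four G)
include D

theorem mem_S_of_sq {x : G} (hx : x ∈ Subgroup.centralizer ({D.t} : Set G)) (h : x * x = 1) :
    x ∈ (D.S : Subgroup G) := by
  have key : ∀ y ∈ D.T, y * y = 1 → y ∈ (D.S : Subgroup G) := by
    intro y hy hy2
    refine D.toSetup.mem_S_of_centralizes fun s hs => ?_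
    obtain ⟨z, hz, h' | h'⟩ := D.toSetup.decomp (D.toSetup.S_le hs)
    · exact D.hcomm y hy hy2 s (h' ▸ hz) (D.toSetup.S_sq hs)
    · have hz2 : z * z = 1 := by
        rw [← D.toSetup.sq_eq hz, ← h']; exact D.toSetup.S_sq hs
      rw [h', ← mul_assoc, D.toSetup.comm_t hy, mul_assoc, D.hcomm y hy hy2 z hz hz2, mul_assoc]
  obtain ⟨y, hy, h' | h'⟩ := D.toSetup.decomp hx
  · exact h' ▸ key y hy (h' ▸ h)
  · have hy2 : y * y = 1 := by rw [← D.toSetup.sq_eq hy, ← h']; exact h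
    exact h' ▸ mul_mem D.htS (key y hy hy2)

/-- The normalizer of the Sylow subgroup. -/
abbrev M : Subgroup G := Subgroup.normalizer ((D.S : Subgroup G) : Set G)

theorem C_le_M : Subgroup.centralizer ({D.t} : Set G) ≤ D.M := by
  intro c hc
  refine Subgroup.mem_normalizer_iff.mpr fun s => ⟨fun hs => ?_, fun hs => ?_⟩
  · exact D.mem_S_of_sq (mul_mem (mul_mem hc (D.toSetup.S_le hs)) (inv_mem hc))
      (conj_sq c s (D.toSetup.S_sq hs))
  · have h1 : s = c⁻¹ * (c * s * c⁻¹) * c⁻¹⁻¹ := by group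
    rw [h1]
    exact D.mem_S_of_sq (mul_mem (mul_mem (inv_mem hc) (D.toSetup.S_le hs)) (inv_mem (inv_mem hc)))
      (conj_sq c⁻¹ _ (D.toSetup.S_sq hs))

theorem card_M : Nat.card D.M = 168 := by
  set H := (Subgroup.centralizer ({D.t} : Set G)).subgroupOf D.M with hH
  let f : D.M ⧸ H → (((D.S : Subgroup G) : Set G) \ {1} : Set G) := fun q =>
    ⟨(q.out : G) * D.t * (q.out : G)⁻¹,
      (Subgroup.mem_normalizer_iff.mp q.out.2 _).mp D.htS, conj_ne_one _ _ D.toSetup.t_ne⟩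
  have hf : Function.Bijective f := by
    constructor
    · intro q r h
      have h' : (q.out : G) * D.t * (q.out : G)⁻¹ = (r.out : G) * D.t * (r.out : G)⁻¹ :=
        congrArg Subtype.val h
      rw [← QuotientGroup.out_eq' q, ← QuotientGroup.out_eq' r, QuotientGroup.eq]
      refine D.toSetup.mem_C.mpr ?_
      show (q.out : G)⁻¹ * r.out * D.t = D.t * ((q.out : G)⁻¹ * r.out)
      calc (q.out : G)⁻¹ * r.out * D.t = (q.out : G)⁻¹ * ((r.out : G) * D.t * (r.out : G)⁻¹) * r.out := by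
            group
        _ = _ := by rw [← h']; group
    · rintro ⟨x, hx, hx1⟩
      obtain ⟨n, hn, rfl⟩ := D.toSetup.normalizer_conj_t hx hx1
      refine ⟨QuotientGroup.mk ⟨n, hn⟩, Subtype.ext ?_⟩
      show (_ : G) * D.t * (_ : G)⁻¹ = _
      obtain ⟨⟨c, hc⟩, e⟩ := QuotientGroup.mk_out_eq_mul H ⟨n, hn⟩
      rw [e]
      simp only [Subgroup.coe_mul]
      have hc' : (c : G) * D.t = D.t * c := D.toSetup.mem_C.mp hc
      rw [mul_inv_rev, show n * (c : G) * D.t * ((c : G)⁻¹ * n⁻¹) = n * ((c : G) * D.t * (c : G)⁻¹) * n⁻¹ by group,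
        hc', mul_inv_cancel_right]
  have hidx : H.index = 7 := by
    rw [Subgroup.index, Nat.card_congr (Equiv.ofBijective f hf), Nat.card_coe_set_eq,
      Set.ncard_sdiff_singleton_of_mem (Subgroup.one_mem _), ← Nat.card_coe_set_eq]
    have := D.toSetup.card_S
    simp only [SetLike.coe_sort_coe]
    rw [this]
  rw [← H.index_mul_card, hidx, Nat.card_congr (Subgroup.subgroupOfEquivOfLe D.C_le_M).toEquiv,
    D.toSetup.card_C, D.h12]

theorem sylow_sq (R : Sylow 2 G) {x : G} (hx : x ∈ (R : Subgroup G)) : x * x = 1 := by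
  have : Fact (Nat.Prime 2) := ⟨Nat.prime_two⟩
  obtain ⟨g, hg⟩ := MulAction.exists_smul_eq G R D.S
  have h1 : g * x * g⁻¹ ∈ (D.S : Subgroup G) := by
    rw [← hg, Sylow.coe_subgroup_smul]
    exact Subgroup.smul_mem_pointwise_smul x _ _ hx
  have h2 := conj_sq g⁻¹ _ (D.toSetup.S_sq h1)
  rwa [show g⁻¹ * (g * x * g⁻¹) * g⁻¹⁻¹ = x by group] at h2

theorem sylow_comm (R : Sylow 2 G) {x y : G} (hx : x ∈ (R : Subgroup G))
    (hy : y ∈ (R : Subgroup G)) : x * y = y * x := by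
  have h := D.sylow_sq R (mul_mem hx hy)
  calc x * y = (x * y)⁻¹ := (inv_eq_of_mul_eq_one_left h).symm
    _ = y⁻¹ * x⁻¹ := mul_inv_rev _ _
    _ = _ := by rw [inv_eq_of_mul_eq_one_left (D.sylow_sq R hy),
      inv_eq_of_mul_eq_one_left (D.sylow_sq R hx)]

theorem sylow_eq_S (R : Sylow 2 G) (h : D.t ∈ (R : Subgroup G)) : R = D.S := by
  have : Fact (Nat.Prime 2) := ⟨Nat.prime_two⟩
  refine Sylow.ext (Subgroup.eq_of_le_of_card_ge
    (fun x hx => D.mem_S_of_sq (D.toSetup.mem_C.mpr (D.sylow_comm R hx h)) (D.sylow_sq R hx)) ?_)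
  rw [Sylow.card_eq_multiplicity, Sylow.card_eq_multiplicity]

theorem sylow_unique {v : G} (hv : v ≠ 1) (R R' : Sylow 2 G) (h : v ∈ (R : Subgroup G))
    (h' : v ∈ (R' : Subgroup G)) : R = R' := by
  have : Fact (Nat.Prime 2) := ⟨Nat.prime_two⟩
  obtain ⟨g, hg⟩ := D.toSetup.conj_t (D.sylow_sq R h) hv
  have key : ∀ Q : Sylow 2 G, v ∈ (Q : Subgroup G) → g • Q = D.S := fun Q hQ => by
    refine D.sylow_eq_S _ ?_
    rw [← hg, Sylow.coe_subgroup_smul]
    exact Subgroup.smul_mem_pointwise_smul v _ _ hQ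
  exact MulAction.injective g ((key R h).trans (key R' h').symm)

theorem mem_M_of_conj {v x : G} (hv : v ∈ (D.S : Subgroup G)) (hv1 : v ≠ 1)
    (hx : x * v * x⁻¹ ∈ (D.S : Subgroup G)) : x ∈ D.M := by
  refine Sylow.smul_eq_iff_mem_normalizer.mp (D.sylow_unique (conj_ne_one x v hv1) _ _ ?_ hx)
  rw [Sylow.coe_subgroup_smul]
  exact Subgroup.smul_mem_pointwise_smul v _ _ hv

theorem invol_mem_S {x : G} (hx : x ∈ D.M) (h : x * x = 1) : x ∈ (D.S : Subgroup G) := by
  have hp : IsPGroup 2 (Subgroup.zpowers x) := fun z => by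
    obtain ⟨k, hk⟩ := Subgroup.mem_zpowers_iff.mp z.2
    refine ⟨1, Subtype.ext ?_⟩
    rw [pow_one, SubmonoidClass.coe_pow, ← hk, pow_two, ← (Commute.refl x).mul_zpow, h, one_zpow,
      OneMemClass.coe_one]
  have : Subgroup.zpowers x ⊓ D.M = Subgroup.zpowers x ⊓ (D.S : Subgroup G) :=
    hp.inf_normalizer_sylow D.S
  have h2 : x ∈ Subgroup.zpowers x ⊓ D.M := ⟨Subgroup.mem_zpowers x, hx⟩
  rw [this] at h2
  exact h2.2

omit D in
/-- The type of involutions. -/
abbrev Inv (G : Type*) [Group G] : Type _ := {v : G // v * v = 1 ∧ v ≠ 1}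

theorem card_inv : Nat.card (Inv G) = 7 * D.M.index := by
  classical
  have : Fact (Nat.Prime 2) := ⟨Nat.prime_two⟩
  have := Fintype.ofFinite (Sylow 2 G)
  have hsyl : ∀ v : Inv G, ∃ R : Sylow 2 G, v.1 ∈ (R : Subgroup G) := fun v => by
    obtain ⟨g, hg⟩ := D.toSetup.conj_t v.2.1 v.2.2
    refine ⟨g⁻¹ • D.S, ?_⟩
    rw [Sylow.coe_subgroup_smul]
    have := Subgroup.smul_mem_pointwise_smul D.t (MulAut.conj g⁻¹) _ D.htS
    convert this using 1
    rw [← hg]
    simp [MulAut.smul_def, mul_assoc]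
  choose F hF using hsyl
  let e₁ : Inv G ≃ {p : Sylow 2 G × G // p.2 ∈ (p.1 : Subgroup G) ∧ p.2 ≠ 1} :=
    { toFun := fun v => ⟨(F v, v.1), hF v, v.2.2⟩
      invFun := fun p => ⟨p.1.2, D.sylow_sq p.1.1 p.2.1, p.2.2⟩
      left_inv := fun v => rfl
      right_inv := fun p => Subtype.ext (Prod.ext (D.sylow_unique p.2.2 _ _ (hF _) p.2.1) rfl) }
  let e₂ : {p : Sylow 2 G × G // p.2 ∈ (p.1 : Subgroup G) ∧ p.2 ≠ 1} ≃
      Σ R : Sylow 2 G, {x : (R : Subgroup G) // x ≠ 1} :=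
    { toFun := fun p => ⟨p.1.1, ⟨⟨p.1.2, p.2.1⟩, fun h => p.2.2 (congrArg Subtype.val h)⟩⟩
      invFun := fun q => ⟨(q.1, q.2.1.1), q.2.1.2, fun h => q.2.2 (Subtype.ext h)⟩
      left_inv := fun p => rfl
      right_inv := fun q => rfl }
  let e := e₁.trans e₂
  rw [Nat.card_congr e, Nat.card_sigma]
  have h7 : ∀ R : Sylow 2 G, Nat.card {x : (R : Subgroup G) // x ≠ 1} = 7 := fun R => by
    have := Fintype.ofFinite (R : Subgroup G)
    rw [Nat.card_eq_fintype_card, Fintype.card_subtype_compl, Fintype.card_subtype_eq,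
      ← Nat.card_eq_fintype_card, Sylow.card_eq_multiplicity, ← D.S.card_eq_multiplicity,
      D.toSetup.card_S]
  rw [Finset.sum_congr rfl fun R _ => h7 R, Finset.sum_const, Finset.card_univ, smul_eq_mul,
    mul_comm, ← Nat.card_eq_fintype_card, D.S.card_eq_index_normalizer]
  rfl

theorem card_out : Nat.card {v : Inv G // v.1 ∉ D.M} = 7 * (D.M.index - 1) := by
  classical
  have := Fintype.ofFinite (Inv G)
  have e : {v : Inv G // v.1 ∈ D.M} ≃ {x : (D.S : Subgroup G) // x ≠ 1} :=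
    { toFun := fun v => ⟨⟨v.1.1, D.invol_mem_S v.2 v.1.2.1⟩, fun h => v.1.2.2 (congrArg Subtype.val h)⟩
      invFun := fun x => ⟨⟨x.1.1, D.toSetup.S_sq x.1.2, fun h => x.2 (Subtype.ext h)⟩,
        Subgroup.le_normalizer x.1.2⟩
      left_inv := fun v => rfl
      right_inv := fun x => rfl }
  have h7 : Nat.card {x : (D.S : Subgroup G) // x ≠ 1} = 7 := by
    have := Fintype.ofFinite (D.S : Subgroup G)
    rw [Nat.card_eq_fintype_card, Fintype.card_subtype_compl, Fintype.card_subtype_eq,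
      ← Nat.card_eq_fintype_card, D.toSetup.card_S]
  have h := D.card_inv
  rw [Nat.card_eq_fintype_card] at h
  rw [Nat.card_eq_fintype_card, Fintype.card_subtype_compl, h, ← Nat.card_eq_fintype_card,
    Nat.card_congr e, h7]
  omega

theorem no_comm_invol {p v : G} (hp : orderOf p = 7) (hv : v * v = 1) (hv1 : v ≠ 1) :
    p * v ≠ v * p := by
  intro h
  obtain ⟨g, hg⟩ := D.toSetup.conj_t hv hv1
  have hmem : g * p * g⁻¹ ∈ Subgroup.centralizer ({D.t} : Set G) := by
    rw [D.toSetup.mem_C, ← hg]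
    calc g * p * g⁻¹ * (g * v * g⁻¹) = g * (p * v) * g⁻¹ := by group
      _ = _ := by rw [h]; group
  have := Subgroup.orderOf_dvd_natCard _ hmem
  rw [D.toSetup.card_C, D.h12] at this
  have e : orderOf (g * p * g⁻¹) = 7 :=
    (orderOf_injective (MulAut.conj g).toMonoidHom (MulAut.conj g).injective p).trans hp
  rw [e] at this
  norm_num at this

theorem no_comm_three {p y : G} (hpM : p ∈ D.M) (hp : orderOf p = 7) (hy : y ∈ D.M)
    (hy3 : orderOf y = 3) : y * p ≠ p * y := by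
  classical
  intro hyp
  set Z := Subgroup.zpowers y with hZ
  have hZM : Z ≤ D.M := Subgroup.zpowers_le.mpr hy
  let act : MulAction Z (D.S : Subgroup G) :=
    { smul := fun z s => ⟨(z : G) * s * (z : G)⁻¹,
        (Subgroup.mem_normalizer_iff.mp (hZM z.2) _).mp s.2⟩
      one_smul := fun s => Subtype.ext (by show (1 : G) * _ * (1 : G)⁻¹ = _; group)
      mul_smul := fun z w s => Subtype.ext (by
        show ((z : G) * w) * _ * ((z : G) * w)⁻¹ = (z : G) * ((w : G) * _ * (w : G)⁻¹) * (z : G)⁻¹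
        group) }
  have : Fact (Nat.Prime 3) := ⟨Nat.prime_three⟩
  have hpz : IsPGroup 3 Z := IsPGroup.of_card (n := 1) (by rw [hZ, Nat.card_zpowers, hy3, pow_one])
  have hmod := hpz.card_modEq_card_fixedPoints (D.S : Subgroup G)
  rw [D.toSetup.card_S] at hmod
  obtain ⟨v, hv, hv1⟩ : ∃ v : (D.S : Subgroup G), v ∈ MulAction.fixedPoints Z (D.S : Subgroup G) ∧ v ≠ 1 := by
    by_contra hc
    push Not at hc
    have hle : Nat.card (MulAction.fixedPoints Z (D.S : Subgroup G)) ≤ 1 :=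
      Finite.card_le_one_iff_subsingleton.mpr
        ⟨fun a b => Subtype.ext ((hc a a.2).trans (hc b b.2).symm)⟩
    unfold Nat.ModEq at hmod
    omega
  have hvy : y * (v : G) = v * y := by
    have := congrArg Subtype.val (hv ⟨y, Subgroup.mem_zpowers y⟩)
    exact mul_inv_eq_iff_eq_mul.mp this
  -- all conjugates of `v` under `p` are fixed
  let F : Fin 7 → G := fun i => p ^ (i : ℕ) * v * (p ^ (i : ℕ))⁻¹
  have hinj : Function.Injective F := by
    intro i j hij
    by_contra hne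
    wlog hlt : (i : ℕ) < j generalizing i j
    · exact this hij.symm (Ne.symm hne) (by omega)
    obtain ⟨d, hd, hd0⟩ : ∃ d, (j : ℕ) = i + d ∧ 0 < d := ⟨j - i, by omega, by omega⟩
    have hcop : Nat.Coprime 7 d := by
      refine (Nat.Prime.coprime_iff_not_dvd (by norm_num)).mpr fun h => ?_
      have := Nat.le_of_dvd hd0 h
      omega
    have hpd : orderOf (p ^ d) = 7 := by
      rw [Nat.Coprime.orderOf_pow (hp ▸ hcop), hp]
    refine D.no_comm_invol hpd (D.toSetup.S_sq v.2) (fun h => hv1 (Subtype.ext h)) ?_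
    have h' : p ^ (i : ℕ) * v * (p ^ (i : ℕ))⁻¹ = p ^ (j : ℕ) * v * (p ^ (j : ℕ))⁻¹ := hij
    rw [hd, pow_add] at h'
    have h2 : p ^ d * (v : G) * (p ^ d)⁻¹ = v := by
      rw [← mul_right_inj (p ^ (i : ℕ)), ← mul_left_inj (p ^ (i : ℕ))⁻¹]
      rw [show p ^ (i : ℕ) * (p ^ d * (v : G) * (p ^ d)⁻¹) * (p ^ (i : ℕ))⁻¹ =
        p ^ (i : ℕ) * p ^ d * v * (p ^ (i : ℕ) * p ^ d)⁻¹ by group]
      exact h'.symm
    exact mul_inv_eq_iff_eq_mul.mp h2
  have hFS : ∀ i, F i ∈ ((D.S : Subgroup G) : Set G) \ {1} := fun i =>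
    ⟨(Subgroup.mem_normalizer_iff.mp (D.M.pow_mem hpM _) _).mp v.2,
      conj_ne_one _ _ fun h => hv1 (Subtype.ext h)⟩
  have hrange : Set.range F = ((D.S : Subgroup G) : Set G) \ {1} := by
    refine Set.eq_of_subset_of_ncard_le (Set.range_subset_iff.mpr hFS) ?_ (Set.toFinite _)
    rw [Set.ncard_range_of_injective hinj, Set.ncard_sdiff_singleton_of_mem (Subgroup.one_mem _),
      ← Nat.card_coe_set_eq, Nat.card_fin]
    exact Nat.sub_le_iff_le_add.mpr (le_of_eq D.toSetup.card_S)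
  have hyS : y ∈ (D.S : Subgroup G) := by
    refine D.toSetup.mem_S_of_centralizes fun s hs => ?_
    by_cases hs1 : s = 1
    · rw [hs1, one_mul, mul_one]
    obtain ⟨i, rfl⟩ : s ∈ Set.range F := hrange ▸ ⟨hs, hs1⟩
    have hc : Commute y (p ^ (i : ℕ)) := Commute.pow_right hyp _
    exact ((hc.mul_right hvy).mul_right hc.inv_right).eq
  have := D.toSetup.S_sq hyS
  rw [← pow_two] at this
  have := orderOf_dvd_of_pow_eq_one this
  rw [hy3] at this
  norm_num at this

theorem cent_seven {p y : G} (hpM : p ∈ D.M) (hp : orderOf p = 7) (hy : y ∈ D.M)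
    (hyp : y * p = p * y) : y ∈ Subgroup.zpowers p := by
  set Z := D.M ⊓ Subgroup.centralizer ({p} : Set G) with hZ
  have hle : Subgroup.zpowers p ≤ Z :=
    Subgroup.zpowers_le.mpr ⟨hpM, Subgroup.mem_centralizer_singleton_iff.mpr rfl⟩
  have hdiv : Nat.card Z ∣ 168 := D.card_M ▸ Subgroup.card_dvd_of_le inf_le_left
  have hn : ∀ q : ℕ, q.Prime → q ∣ Nat.card Z → q ≠ 2 ∧ q ≠ 3 := by
    intro q hq hqd
    have : Fact q.Prime := ⟨hq⟩
    obtain ⟨z, hz⟩ := exists_prime_orderOf_dvd_card' q hqd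
    rw [← Subgroup.orderOf_coe] at hz
    have hzp : (z : G) * p = p * z := Subgroup.mem_centralizer_singleton_iff.mp z.2.2
    constructor <;> rintro rfl
    · obtain ⟨h1, h2⟩ := mul_self_of_orderOf hz
      exact D.no_comm_invol hp h1 h2 hzp.symm
    · exact D.no_comm_three hpM hp z.2.1 hz hzp
  have h7 : Nat.card Z ≤ 7 := by
    have hco : (Nat.card Z).Coprime 24 := by
      refine Nat.coprime_of_dvd fun q hq h1 h2 => ?_
      obtain ⟨h3, h4⟩ := hn q hq h1
      have : q ∣ 2 ^ 3 * 3 := by norm_num; exact h2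
      rcases (Nat.Prime.dvd_mul hq).mp this with h | h
      · exact h3 ((Nat.prime_dvd_prime_iff_eq hq Nat.prime_two).mp (hq.dvd_of_dvd_pow h))
      · exact h4 ((Nat.prime_dvd_prime_iff_eq hq Nat.prime_three).mp h)
    exact Nat.le_of_dvd (by norm_num) (hco.dvd_of_dvd_mul_left (show Nat.card Z ∣ 24 * 7 from hdiv))
  have heq : Subgroup.zpowers p = Z := Subgroup.eq_of_le_of_card_ge hle (by
    rw [Nat.card_zpowers, hp]; exact h7)
  rw [heq]
  exact ⟨hy, Subgroup.mem_centralizer_singleton_iff.mpr hyp⟩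

/-- The elements of `M` inverted by `s`. -/
def invSet (s : G) : Set G := {y | y ∈ D.M ∧ s * y * s = y⁻¹}

theorem invSet_bound {s : G} (hs : s * s = 1) (hsM : s ∉ D.M) :
    (D.invSet s).ncard ≤ 3 ∨ ∃ p ∈ D.M, orderOf p = 7 ∧
      D.invSet s ⊆ (Subgroup.zpowers p : Set G) := by
  classical
  have hsi : s⁻¹ = s := inv_eq_of_mul_eq_one_left hs
  set Dd := D.M ⊓ D.M.map (MulAut.conj s).toMonoidHom with hDd
  have hmemD : ∀ y, y ∈ Dd ↔ y ∈ D.M ∧ s * y * s ∈ D.M := by
    intro y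
    rw [hDd, Subgroup.mem_inf]
    refine and_congr_right fun _ => ⟨fun h => ?_, fun h => ?_⟩
    · obtain ⟨z, hz, rfl⟩ := Subgroup.mem_map.mp h
      have : s * (s * z * s⁻¹) * s = z := by
        rw [hsi, show s * (s * z * s) * s = (s * s) * z * (s * s) by group, hs]; group
      show s * ((MulAut.conj s) z) * s ∈ D.M
      rw [MulAut.conj_apply, this]; exact hz
    · refine Subgroup.mem_map.mpr ⟨_, h, ?_⟩
      show (MulAut.conj s) (s * y * s) = y
      rw [MulAut.conj_apply, hsi, show s * (s * y * s) * s = (s * s) * y * (s * s) by group, hs]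
      group
  have hED : D.invSet s ⊆ (Dd : Set G) := fun y hy =>
    (hmemD y).mpr ⟨hy.1, by rw [hy.2]; exact inv_mem hy.1⟩
  have hsD : ∀ y ∈ Dd, s * y * s ∈ Dd := fun y hy => by
    obtain ⟨h1, h2⟩ := (hmemD y).mp hy
    refine (hmemD _).mpr ⟨h2, ?_⟩
    rwa [show s * (s * y * s) * s = (s * s) * y * (s * s) by group, hs, one_mul, mul_one]
  have hodd : ¬ 2 ∣ Nat.card Dd := fun hd => by
    have : Fact (Nat.Prime 2) := ⟨Nat.prime_two⟩
    obtain ⟨v, hv⟩ := exists_prime_orderOf_dvd_card' 2 hd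
    rw [← Subgroup.orderOf_coe] at hv
    obtain ⟨h1, h2⟩ := mul_self_of_orderOf hv
    obtain ⟨hvM, hvM'⟩ := (hmemD v).mp v.2
    have h3 : (v : G) ∈ (D.S : Subgroup G) := D.invol_mem_S hvM h1
    have h4 : s * v * s⁻¹ ∈ (D.S : Subgroup G) :=
      D.invol_mem_S (by rw [hsi]; exact hvM') (conj_sq s _ h1)
    exact hsM (D.mem_M_of_conj h3 h2 h4)
  have h21 : Nat.card Dd ∣ 21 := by
    have h168 : Nat.card Dd ∣ 8 * 21 := (Subgroup.card_dvd_of_le inf_le_left).trans D.card_M.dvd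
    refine (Nat.Coprime.dvd_of_dvd_mul_left ?_ h168)
    exact Nat.Coprime.pow_right 3 ((Nat.prime_two.coprime_iff_not_dvd.mpr hodd).symm)
  by_cases h7 : 7 ∣ Nat.card Dd
  swap
  · left
    have h3 : Nat.card Dd ∣ 3 :=
      (Nat.Coprime.dvd_of_dvd_mul_left (((Nat.Prime.coprime_iff_not_dvd (by norm_num)).mpr h7).symm)
        (show Nat.card Dd ∣ 7 * 3 from h21))
    calc (D.invSet s).ncard ≤ (Dd : Set G).ncard := Set.ncard_le_ncard hED (Set.toFinite _)
      _ = Nat.card Dd := (Nat.card_coe_set_eq _).symm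
      _ ≤ 3 := Nat.le_of_dvd (by norm_num) h3
  right
  have : Fact (Nat.Prime 7) := ⟨by norm_num⟩
  obtain ⟨p, hp⟩ := exists_prime_orderOf_dvd_card' 7 h7
  have hp' : orderOf (p : G) = 7 := by rw [Subgroup.orderOf_coe, hp]
  have hpM : (p : G) ∈ D.M := ((hmemD p).mp p.2).1
  refine ⟨p, hpM, hp', ?_⟩
  -- the unique Sylow 7-subgroup of `Dd`
  have huniq : Subsingleton (Sylow 7 Dd) := by
    refine Finite.card_le_one_iff_subsingleton.mp ?_
    have h1 := card_sylow_modEq_one 7 Dd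
    obtain ⟨R⟩ := (inferInstance : Nonempty (Sylow 7 Dd))
    have hR7 : 7 ∣ Nat.card (R : Subgroup Dd) := R.dvd_card_of_dvd_card h7
    have h2 : Nat.card (Sylow 7 Dd) ∣ 3 := by
      refine (R.card_dvd_index).trans ?_
      obtain ⟨c, hc⟩ := hR7
      have := Subgroup.index_mul_card (R : Subgroup Dd)
      refine (Nat.mul_dvd_mul_iff_left (show 0 < 7 by norm_num)).mp ?_
      refine dvd_trans ?_ h21
      rw [← this, hc, mul_comm 7 (R : Subgroup Dd).index]
      exact Nat.mul_dvd_mul_left _ (dvd_mul_right 7 c)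
    rcases (Nat.dvd_prime Nat.prime_three).mp h2 with h | h
    · omega
    · rw [h] at h1; exact absurd h1 (by decide)
  have hmem : ∀ z ∈ Dd, z ^ 7 = 1 → z ∈ Subgroup.zpowers (p : G) := by
    intro z hz hz7
    have hpp : IsPGroup 7 (Subgroup.zpowers p) :=
      IsPGroup.of_card (n := 1) (by rw [Nat.card_zpowers, hp, pow_one])
    obtain ⟨R, hR⟩ := hpp.exists_le_sylow
    have hzp : IsPGroup 7 (Subgroup.zpowers (⟨z, hz⟩ : Dd)) := fun w => by
      obtain ⟨k, hk⟩ := Subgroup.mem_zpowers_iff.mp w.2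
      refine ⟨1, Subtype.ext ?_⟩
      rw [pow_one, SubmonoidClass.coe_pow, ← hk, ← zpow_natCast, ← zpow_mul, mul_comm, zpow_mul,
        zpow_natCast, show (⟨z, hz⟩ : Dd) ^ 7 = 1 from Subtype.ext hz7, one_zpow,
        OneMemClass.coe_one]
    obtain ⟨R', hR'⟩ := hzp.exists_le_sylow
    rw [Subsingleton.elim R' R] at hR'
    have hcard : Nat.card (R : Subgroup Dd) = 7 := by
      obtain ⟨j, hj⟩ := R.isPGroup'.exists_card_eq
      have h7d : Nat.card (R : Subgroup Dd) ∣ 21 := (Subgroup.card_subgroup_dvd_card _).trans h21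
      have hge := Subgroup.card_dvd_of_le hR
      rw [Nat.card_zpowers, hp, hj] at hge
      rw [hj] at h7d ⊢
      rcases Nat.lt_or_ge j 2 with hj2 | hj2
      · interval_cases j
        · norm_num at hge
        · norm_num
      · exact absurd ((pow_dvd_pow 7 hj2).trans h7d) (by norm_num)
    have heq : Subgroup.zpowers p = (R : Subgroup Dd) :=
      Subgroup.eq_of_le_of_card_ge hR (by rw [Nat.card_zpowers, hp, hcard])
    obtain ⟨k, hk⟩ := Subgroup.mem_zpowers_iff.mp (heq ▸ hR' (Subgroup.mem_zpowers _))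
    exact Subgroup.mem_zpowers_iff.mpr ⟨k, by rw [← Subgroup.coe_zpow, hk]⟩
  intro y hy
  have hyD : y ∈ Dd := hED hy
  have hp7 : (p : G) ^ 7 = 1 := hp' ▸ pow_orderOf_eq_one _
  obtain ⟨i, hi⟩ := Subgroup.mem_zpowers_iff.mp (hmem (y * p * y⁻¹)
    (mul_mem (mul_mem hyD p.2) (inv_mem hyD)) (by rw [conj_pow, hp7]; group))
  obtain ⟨j, hj⟩ := Subgroup.mem_zpowers_iff.mp (hmem (s * p * s) (hsD _ p.2) (by
    nth_rw 2 [← hsi]; rw [conj_pow, hp7]; group))
  have hjj : (p : G) = (p : G) ^ (j * j) := by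
    rw [zpow_mul, hj]
    nth_rw 2 [← hsi]
    rw [conj_zpow, hj, hsi, show s * (s * (p : G) * s) * s = (s * s) * p * (s * s) by group, hs]
    group
  have hyinv : y⁻¹ * p * y = y * p * y⁻¹ := by
    have e1 : y⁻¹ * p * y = s * (y * (s * p * s) * y⁻¹) * s := by
      have h2 : s * y⁻¹ * s = y := by
        rw [← hy.2, show s * (s * y * s) * s = (s * s) * y * (s * s) by group, hs]; group
      calc y⁻¹ * p * y = (s * y * s) * p * (s * y⁻¹ * s) := by rw [hy.2, h2]
        _ = _ := by group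
    rw [e1, ← hj, ← conj_zpow, ← hi, ← zpow_mul]
    nth_rw 2 [← hsi]
    rw [← conj_zpow, hsi, ← hj, ← zpow_mul, show j * (i * j) = j * j * i by ring, zpow_mul, ← hjj]
  have hc2 : (y * y) * p = p * (y * y) := by
    calc y * y * p = y * (y * p * y⁻¹) * y := by group
      _ = y * (y⁻¹ * p * y) * y := by rw [hyinv]
      _ = _ := by group
  have h := D.cent_seven hpM hp' (mul_mem hy.1 hy.1) hc2
  have hy21 : y ^ 21 = 1 :=
    orderOf_dvd_iff_pow_eq_one.mp ((Subgroup.orderOf_dvd_natCard Dd hyD).trans h21)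
  have : y = (y * y) ^ 11 := by rw [← pow_two, ← pow_mul, pow_succ, hy21, one_mul]
  rw [SetLike.mem_coe, this]
  exact Subgroup.pow_mem _ h 11

end Four

end Cfsg.Agent.Blocks88.TwoByAlt
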