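import Cfsg.Agent.Blocks88.TwoByAlt.Setup
import Mathlib.GroupTheory.SpecificGroups.Alternating
import Mathlib.GroupTheory.SpecificGroups.Cyclic
import Mathlib.GroupTheory.NoncommCoprod

/-!
# A group with involution centralizer `Z₂ × A₅` is simple
-/

set_option autoImplicit false
set_option linter.unusedSectionVars false

namespace Cfsg.Agent.Blocks88.TwoByAlt

/-- The subgroup generated by all involutions. -/
abbrev invClosure (G : Type*) [Group G] : Subgroup G := Subgroup.closure {v : G | v * v = 1}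

/-- The case of `A₅`. -/
structure Five (G : Type*) [Group G] extends Setup G where
  h60 : Nat.card T = 60
  hsimp : IsSimpleGroup T

namespace Five

variable {G : Type*} [Group G] [Finite G] (D : Five G)
include D

theorem exists_noncomm {y : G} (hy : y ∈ D.T) (hy2 : y * y = 1) (hy1 : y ≠ 1) :
    ∃ z ∈ D.T, z * y ≠ y * z := by
  by_contra hc
  push Not at hc
  have : Fact (Nat.Prime 3) := ⟨Nat.prime_three⟩
  obtain ⟨z, hz⟩ := exists_prime_orderOf_dvd_card' 3 (show 3 ∣ Nat.card D.T by rw [D.h60]; norm_num)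
  rw [← Subgroup.orderOf_coe] at hz
  have h := orderOf_dvd_of_pow_eq_one (x := (z : G)) (n := 2)
    (by rw [pow_two]; exact D.hexp y hy hy2 hy1 z z.2 (hc z z.2))
  rw [hz] at h
  norm_num at h

theorem N_normal : (invClosure G).Normal := by
  refine ⟨fun x hx g => ?_⟩
  induction hx using Subgroup.closure_induction with
  | mem v hv => exact Subgroup.subset_closure (conj_sq g v hv)
  | one => simp
  | mul a b _ _ iha ihb =>
    have : g * (a * b) * g⁻¹ = (g * a * g⁻¹) * (g * b * g⁻¹) := by group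
    rw [this]; exact mul_mem iha ihb
  | inv a _ iha =>
    have : g * a⁻¹ * g⁻¹ = (g * a * g⁻¹)⁻¹ := by group
    rw [this]; exact inv_mem iha

theorem S_le_N : (D.S : Subgroup G) ≤ (invClosure G) := fun _ hs => Subgroup.subset_closure (D.toSetup.S_sq hs)

theorem T_le_of_mem {K : Subgroup G} (hK : ∀ y ∈ D.T, ∀ x ∈ K, y * x * y⁻¹ ∈ K) {w : G} (hw : w ∈ K)
    (hw2 : w * w = 1) (hw1 : w ≠ 1) (hwt : w ≠ D.t) (hc : w * D.t = D.t * w) : D.T ≤ K := by
  obtain ⟨v, hvK, hvT, hv1⟩ : ∃ v, v ∈ K ∧ v ∈ D.T ∧ v ≠ 1 := by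
    obtain ⟨y, hy, h | h⟩ := D.toSetup.decomp (D.toSetup.mem_C.mpr hc)
    · exact ⟨w, hw, h ▸ hy, hw1⟩
    · have hy2 : y * y = 1 := by rw [← D.toSetup.sq_eq hy, ← h]; exact hw2
      have hy1 : y ≠ 1 := fun e => hwt (by rw [h, e, mul_one])
      obtain ⟨z, hz, hne⟩ := D.exists_noncomm hy hy2 hy1
      have e : z * w * z⁻¹ * w⁻¹ = z * y * z⁻¹ * y⁻¹ := by
        rw [h, mul_inv_rev, ← mul_assoc z, D.toSetup.comm_t hz]
        calc D.t * z * y * z⁻¹ * (y⁻¹ * D.t⁻¹) = D.t * (z * y * z⁻¹ * y⁻¹) * D.t⁻¹ := by group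
          _ = _ := by
            rw [← D.toSetup.comm_t (mul_mem (mul_mem (mul_mem hz hy) (inv_mem hz)) (inv_mem hy)),
              mul_inv_cancel_right]
      refine ⟨z * y * z⁻¹ * y⁻¹, ?_, mul_mem (mul_mem (mul_mem hz hy) (inv_mem hz)) (inv_mem hy), ?_⟩
      · rw [← e]; exact mul_mem (hK z hz w hw) (inv_mem hw)
      · intro e1
        exact hne (mul_inv_eq_iff_eq_mul.mp (mul_inv_eq_one.mp e1))
  have hn : (K.subgroupOf D.T).Normal :=
    ⟨fun x hx y => Subgroup.mem_subgroupOf.mpr (hK y y.2 x (Subgroup.mem_subgroupOf.mp hx))⟩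
  rcases D.hsimp.eq_bot_or_eq_top_of_normal _ hn with h | h
  · exfalso
    have hv : (⟨v, hvT⟩ : D.T) ∈ K.subgroupOf D.T := Subgroup.mem_subgroupOf.mpr hvK
    rw [h] at hv
    exact hv1 (congrArg Subtype.val (Subgroup.mem_bot.mp hv))
  · exact Subgroup.subgroupOf_eq_top.mp h

theorem T_le_N : D.T ≤ (invClosure G) := by
  obtain ⟨a, -, ⟨haS, haT, ha1⟩, -⟩ := D.toSetup.exists_four
  exact D.T_le_of_mem (fun y _ x hx => D.N_normal.conj_mem x hx y) (D.S_le_N haS)
    (D.toSetup.S_sq haS) ha1 (fun e => D.toSetup.t_notMem (e ▸ haT)) (D.hcS a haS)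

theorem C_le_N : Subgroup.centralizer ({D.t} : Set G) ≤ (invClosure G) := fun x hx => by
  obtain ⟨y, hy, h | h⟩ := D.toSetup.decomp hx
  · exact h ▸ D.T_le_N hy
  · exact h ▸ mul_mem (D.S_le_N D.htS) (D.T_le_N hy)

theorem T_le_sub {K : Subgroup G} (hKN : K ≤ (invClosure G)) (hn : ∀ n ∈ (invClosure G), ∀ x ∈ K, n * x * n⁻¹ ∈ K)
    (hK : K ≠ ⊥) : D.T ≤ K := by
  classical
  have : Fact (Nat.Prime 2) := ⟨Nat.prime_two⟩
  have heven : 2 ∣ Nat.card K := by
    by_contra h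
    refine hK (D.toSetup.eq_bot_of_odd K (Nat.odd_iff.mpr (by omega)) fun s hs x hx => ?_)
    have := hn s (D.S_le_N hs) x hx
    rwa [inv_eq_of_mul_eq_one_left (D.toSetup.S_sq hs)] at this
  obtain ⟨w, hw⟩ := exists_prime_orderOf_dvd_card' 2 heven
  rw [← Subgroup.orderOf_coe] at hw
  obtain ⟨hw2, hw1⟩ := mul_self_of_orderOf hw
  have hwN : (w : G) ∈ (invClosure G) := hKN w.2
  have hz : IsPGroup 2 (Subgroup.zpowers (⟨w, hwN⟩ : (invClosure G))) :=
    IsPGroup.of_card (n := 1) (by rw [Nat.card_zpowers, Subgroup.orderOf_mk, hw, pow_one])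
  obtain ⟨R, hR⟩ := hz.exists_le_sylow
  obtain ⟨k, hk⟩ := MulAction.exists_smul_eq (invClosure G) R (D.S.subtype D.S_le_N)
  have h1 := Subgroup.smul_mem_pointwise_smul _ (MulAut.conj k) _ (hR (Subgroup.mem_zpowers _))
  have h2 : MulAut.conj k • (⟨w, hwN⟩ : (invClosure G)) ∈ ((D.S.subtype D.S_le_N : Sylow 2 (invClosure G)) : Subgroup (invClosure G)) := by
    rw [← hk, Sylow.coe_subgroup_smul]; exact h1
  set s := (k : G) * w * (k : G)⁻¹ with hs
  have hsS : s ∈ (D.S : Subgroup G) := h2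
  have hsK : s ∈ K := hn k k.2 w w.2
  have hT : ∀ y ∈ D.T, ∀ x ∈ K, y * x * y⁻¹ ∈ K := fun y hy => hn y (D.T_le_N hy)
  by_cases hst : s = D.t
  swap
  · exact D.T_le_of_mem hT hsK (D.toSetup.S_sq hsS) (conj_ne_one _ _ hw1) hst (D.hcS s hsS)
  rw [hst] at hsK
  obtain ⟨g, u, huS, huT, hu⟩ := D.toSetup.exists_fused
  set K' := K.map (MulAut.conj g).toMonoidHom with hK'
  have hmem : ∀ x, x ∈ K' ↔ g⁻¹ * x * g ∈ K := fun x => by
    constructor
    · intro hx
      obtain ⟨z, hz, rfl⟩ := Subgroup.mem_map.mp hx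
      simpa [MulAut.conj_apply, mul_assoc] using hz
    · intro hx
      refine Subgroup.mem_map.mpr ⟨_, hx, ?_⟩
      simp [MulAut.conj_apply, mul_assoc]
  have huK : u ∈ K' := (hmem u).mpr (by rw [← hu]; simpa [mul_assoc] using hsK)
  have hT' : D.T ≤ K' := D.T_le_of_mem (fun y hy x hx => (hmem _).mpr (by
      have hy' : g⁻¹ * y * g ∈ (invClosure G) := by
        have := D.N_normal.conj_mem y (D.T_le_N hy) g⁻¹
        rwa [inv_inv] at this
      have := hn _ hy' _ ((hmem x).mp hx)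
      rwa [show g⁻¹ * y * g * (g⁻¹ * x * g) * (g⁻¹ * y * g)⁻¹ = g⁻¹ * (y * x * y⁻¹) * g by group]
        at this)) huK (D.toSetup.S_sq huS)
    (hu ▸ conj_ne_one _ _ D.toSetup.t_ne) (fun e => D.toSetup.t_notMem (e ▸ huT)) (D.hcS u huS)
  obtain ⟨a, b, ⟨haS, haT, ha1⟩, ⟨hbS, hbT, hb1⟩, hab⟩ := D.toSetup.exists_four
  obtain ⟨v, hvS, hvT, hv1, hvu⟩ : ∃ v, v ∈ (D.S : Subgroup G) ∧ v ∈ D.T ∧ v ≠ 1 ∧ v ≠ u := by
    by_cases h : a = u
    · exact ⟨b, hbS, hbT, hb1, fun e => hab (h.trans e.symm)⟩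
    · exact ⟨a, haS, haT, ha1, h⟩
  have hv' : g⁻¹ * v * g ∈ K := (hmem v).mp (hT' hvT)
  refine D.T_le_of_mem hT hv' ?_ ?_ ?_ ?_
  · have := conj_sq g⁻¹ v (D.toSetup.S_sq hvS)
    rwa [inv_inv] at this
  · have := conj_ne_one g⁻¹ v hv1
    rwa [inv_inv] at this
  · intro e
    exact hvu (by rw [← hu, ← e]; group)
  · have hvu' : v * u = u * v := D.toSetup.S_comm hvS huS
    rw [← hu] at hvu'
    calc g⁻¹ * v * g * D.t = g⁻¹ * (v * (g * D.t * g⁻¹)) * g := by group
      _ = g⁻¹ * ((g * D.t * g⁻¹) * v) * g := by rw [hvu']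
      _ = _ := by group

theorem eq_N {K : Subgroup G} (hKN : K ≤ (invClosure G)) (hn : ∀ n ∈ (invClosure G), ∀ x ∈ K, n * x * n⁻¹ ∈ K)
    (hK : K ≠ ⊥) : K = (invClosure G) := by
  refine le_antisymm hKN ((Subgroup.closure_le _).mpr fun v hv => ?_)
  by_cases hv1 : v = 1
  · rw [hv1]; exact one_mem _
  obtain ⟨a, ha⟩ := D.toSetup.conj_t hv hv1
  obtain ⟨g, u, huS, huT, hu⟩ := D.toSetup.exists_fused
  set c := g * a
  set K' := K.map (MulAut.conj c).toMonoidHom with hK'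
  have hT : D.T ≤ K' := by
    refine D.T_le_sub ?_ ?_ ?_
    · rintro _ ⟨x, hx, rfl⟩
      exact D.N_normal.conj_mem x (hKN hx) c
    · rintro n hnN _ ⟨x, hx, rfl⟩
      refine ⟨(c⁻¹ * n * c) * x * (c⁻¹ * n * c)⁻¹, hn _ ?_ x hx, ?_⟩
      · have := D.N_normal.conj_mem n hnN c⁻¹
        rwa [inv_inv] at this
      · show (MulAut.conj c) _ = _ * (MulAut.conj c) x * _
        simp only [MulAut.conj_apply]; group
    · intro h
      exact hK ((Subgroup.map_eq_bot_iff_of_injective _ (MulAut.conj c).injective).mp h)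
  obtain ⟨z, hz, hzu⟩ := Subgroup.mem_map.mp (hT huT)
  have : z = v := by
    rw [← hu, ← ha] at hzu
    have e : c * z * c⁻¹ = g * (a * v * a⁻¹) * g⁻¹ := hzu
    calc z = c⁻¹ * (c * z * c⁻¹) * c := by group
      _ = _ := by rw [e]; simp only [c]; group
  exact this ▸ hz

/-- The data inside the subgroup generated by the involutions. -/
def setupN : Setup (invClosure G) where
  t := ⟨D.t, D.S_le_N D.htS⟩
  T := D.T.subgroupOf (invClosure G)
  S := D.S.subtype D.S_le_N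
  ht := by rw [Subgroup.orderOf_mk]; exact D.ht
  htS := D.htS
  hcS x hx := Subtype.ext (D.hcS x hx)
  hd := by
    obtain ⟨-, hTC, hcomm, hinf, hsup⟩ := D.hd
    have hz : Subgroup.zpowers (⟨D.t, D.S_le_N D.htS⟩ : (invClosure G)) = (Subgroup.zpowers D.t).subgroupOf (invClosure G) := by
      ext x
      simp only [Subgroup.mem_subgroupOf, Subgroup.mem_zpowers_iff]
      exact exists_congr fun k => by rw [Subtype.ext_iff, SubgroupClass.coe_zpow]
    have hC : Subgroup.centralizer ({⟨D.t, D.S_le_N D.htS⟩} : Set (invClosure G)) =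
        (Subgroup.centralizer ({D.t} : Set G)).subgroupOf (invClosure G) := by
      ext x
      rw [Subgroup.mem_subgroupOf, Subgroup.mem_centralizer_singleton_iff,
        Subgroup.mem_centralizer_singleton_iff, Subtype.ext_iff]
      rfl
    rw [hz, hC]
    refine ⟨?_, ?_, ?_, ?_, ?_⟩
    · exact Subgroup.comap_mono (Subgroup.zpowers_le.mpr (D.toSetup.mem_C.mpr rfl))
    · exact Subgroup.comap_mono hTC
    · exact fun a ha b hb => Subtype.ext (hcomm a ha b hb)
    · rw [eq_bot_iff]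
      intro x hx
      have h : (x : G) ∈ Subgroup.zpowers D.t ⊓ D.T := ⟨hx.1, hx.2⟩
      rw [hinf] at h
      exact Subgroup.mem_bot.mpr (Subtype.ext (Subgroup.mem_bot.mp h))
    · rw [← Subgroup.subgroupOf_sup (Subgroup.zpowers_le.mpr (D.S_le_N D.htS)) D.T_le_N, hsup]
  h2 K hK hidx := by
    by_cases hK1 : K = ⊥
    · have h8 : 8 ∣ Nat.card (invClosure G) := D.toSetup.card_S ▸ Subgroup.card_dvd_of_le D.S_le_N
      rw [hK1, Subgroup.index_bot] at hidx
      omega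
    have hne : K.map (invClosure G).subtype ≠ ⊥ := fun h =>
      hK1 ((Subgroup.map_eq_bot_iff_of_injective _ (invClosure G).subtype_injective).mp h)
    have h := D.eq_N (K := K.map (invClosure G).subtype) (fun x hx => by
        obtain ⟨y, -, rfl⟩ := Subgroup.mem_map.mp hx; exact y.2)
      (fun n hn x hx => by
        obtain ⟨y, hy, rfl⟩ := Subgroup.mem_map.mp hx
        exact Subgroup.mem_map.mpr ⟨_, hK.conj_mem y hy ⟨n, hn⟩, rfl⟩) hne
    have : K = ⊤ := by
      refine eq_top_iff.mpr fun x _ => ?_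
      obtain ⟨y, hy, hyx⟩ := Subgroup.mem_map.mp (h.ge x.2)
      exact (Subtype.ext hyx : y = x) ▸ hy
    rw [this, Subgroup.index_top] at hidx
    omega
  hexp a ha ha2 ha1 y hy hya := Subtype.ext (D.hexp a ha (congrArg Subtype.val ha2)
    (fun e => ha1 (Subtype.ext e)) y hy (congrArg Subtype.val hya))
  hconjT a ha ha2 ha1 b hb hb2 hb1 := by
    obtain ⟨y, hy, e⟩ := D.hconjT a ha (congrArg Subtype.val ha2) (fun e => ha1 (Subtype.ext e))
      b hb (congrArg Subtype.val hb2) (fun e => hb1 (Subtype.ext e))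
    exact ⟨⟨y, D.T_le_N hy⟩, hy, Subtype.ext e⟩
  hcard := Or.inr (by
    rw [Nat.card_congr (Subgroup.subgroupOfEquivOfLe D.T_le_N).toEquiv]; exact D.h60)

theorem N_eq_top : (invClosure G) = ⊤ := by
  have : Fact (Nat.Prime 2) := ⟨Nat.prime_two⟩
  have := D.N_normal
  have hsup := Sylow.normalizer_sup_eq_top' D.S D.S_le_N
  rw [← hsup, eq_comm, sup_eq_right]
  intro n hn
  have hxS : n * D.t * n⁻¹ ∈ (D.S : Subgroup G) := (Subgroup.mem_normalizer_iff.mp hn _).mp D.htS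
  obtain ⟨m, -, hm⟩ := D.setupN.normalizer_conj_t (x := ⟨_, D.S_le_N hxS⟩) hxS
    (fun e => conj_ne_one n D.t D.toSetup.t_ne (congrArg Subtype.val e))
  have e : (m : G) * D.t * (m : G)⁻¹ = n * D.t * n⁻¹ := congrArg Subtype.val hm
  have hc : (m : G)⁻¹ * n ∈ Subgroup.centralizer ({D.t} : Set G) := by
    rw [D.toSetup.mem_C]
    calc (m : G)⁻¹ * n * D.t = (m : G)⁻¹ * (n * D.t * n⁻¹) * n := by group
      _ = _ := by rw [← e]; group
  have := mul_mem m.2 (D.C_le_N hc)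
  rwa [mul_inv_cancel_left] at this

theorem isSimpleGroup : IsSimpleGroup G := by
  have : Nontrivial G := ⟨D.t, 1, D.toSetup.t_ne⟩
  refine ⟨fun K hK => ?_⟩
  rw [or_iff_not_imp_left]
  intro hne
  rw [← D.N_eq_top]
  exact D.eq_N (by rw [D.N_eq_top]; exact le_top) (fun n _ x hx => hK.conj_mem x hx n) hne

theorem centEquiv (e : D.T ≃* alternatingGroup (Fin 5)) :
    Nonempty ((Subgroup.centralizer ({D.t} : Set G)) ≃*
      Multiplicative (ZMod 2) × alternatingGroup (Fin 5)) := by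
  have hcomm : ∀ (a : Subgroup.zpowers D.t) (b : D.T), Commute (a : G) (b : G) := fun a b =>
    D.hd.2.2.1 a a.2 b b.2
  let φ : Subgroup.zpowers D.t × D.T →* G :=
    MonoidHom.noncommCoprod (Subgroup.zpowers D.t).subtype D.T.subtype hcomm
  have hC : ∀ x, φ x ∈ Subgroup.centralizer ({D.t} : Set G) := fun x =>
    mul_mem (D.hd.1 x.1.2) (D.hd.2.1 x.2.2)
  let ψ := φ.codRestrict _ hC
  have hinj : Function.Injective ψ := by
    rw [injective_iff_map_eq_one]
    rintro ⟨a, b⟩ h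
    have h' : (a : G) * b = 1 := congrArg Subtype.val h
    have hb : (b : G) ∈ Subgroup.zpowers D.t ⊓ D.T :=
      Subgroup.mem_inf.mpr ⟨(eq_inv_of_mul_eq_one_right h') ▸ (Subgroup.zpowers D.t).inv_mem a.2, b.2⟩
    rw [D.hd.2.2.2.1] at hb
    have hb1 : (b : G) = 1 := Subgroup.mem_bot.mp hb
    rw [hb1, mul_one] at h'
    exact Prod.ext (Subtype.ext h') (Subtype.ext hb1)
  have hbij : Function.Bijective ψ := (Nat.bijective_iff_injective_and_card ψ).mpr ⟨hinj, by
    rw [Nat.card_prod, Nat.card_zpowers, D.ht, D.toSetup.card_C]⟩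
  have : Fact (Nat.Prime 2) := ⟨Nat.prime_two⟩
  have e2 : Subgroup.zpowers D.t ≃* Multiplicative (ZMod 2) :=
    mulEquivOfPrimeCardEq (p := 2) (by rw [Nat.card_zpowers, D.ht]) (by simp)
  exact ⟨(MulEquiv.ofBijective ψ hbij).symm.trans (MulEquiv.prodCongr e2 e)⟩

end Five

end Cfsg.Agent.Blocks88.TwoByAlt
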