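import Cfsg.Agent.Blocks88.TwoByAlt.Order
import Cfsg.Agent.S1011
import Cfsg.Agent.S0813
import Cfsg.Agent.S0265
import Mathlib.FieldTheory.Finite.GaloisField
import Mathlib.LinearAlgebra.Matrix.GeneralLinearGroup.Card

/-!
# Identification of the group of order 1512
-/

set_option autoImplicit false
set_option linter.unusedSectionVars false

namespace Cfsg.Agent.Blocks88.TwoByAlt

/-- If `M` supplements the normal subgroup `N` then the index of `M` divides the order of `N`. -/
theorem index_dvd_card_of_sup {G : Type*} [Group G] [Finite G] (M N : Subgroup G) [N.Normal]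
    (h : M ⊔ N = ⊤) : M.index ∣ Nat.card N := by
  have h1 : N.relIndex M = N.index := by
    have h' := Subgroup.relIndex_sup_right M N
    rw [h, Subgroup.relIndex_top_right] at h'
    exact h'.symm
  have h2 : N.index * Nat.card (N.subgroupOf M) = Nat.card M := by
    rw [← h1]; exact (N.subgroupOf M).index_mul_card
  have h3 := M.index_mul_card
  rw [← h2, ← N.index_mul_card, mul_left_comm] at h3
  exact ⟨_, (Nat.eq_of_mul_eq_mul_left (Nat.pos_of_ne_zero Subgroup.index_ne_zero_of_finite) h3).symm⟩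

namespace Four

variable {G : Type*} [Group G] [Finite G] (D : Four G)
include D

theorem exists_u : ∃ u ∈ D.T, orderOf u = 3 := by
  have : Fact (Nat.Prime 3) := ⟨Nat.prime_three⟩
  obtain ⟨u, hu⟩ := exists_prime_orderOf_dvd_card' 3 (show 3 ∣ Nat.card D.T by rw [D.h12]; norm_num)
  exact ⟨u, u.2, by rw [Subgroup.orderOf_coe, hu]⟩

theorem cube {u : G} (hu : orderOf u = 3) : u * u * u = 1 ∧ u ≠ 1 := by
  refine ⟨?_, fun h => by rw [h, orderOf_one] at hu; omega⟩
  have h := pow_orderOf_eq_one u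
  rwa [hu, pow_succ, pow_two] at h

theorem eq_t_of_cent {u v : G} (huT : u ∈ D.T) (hu : orderOf u = 3) (hv : v * v = 1) (hv1 : v ≠ 1)
    (hvt : v * D.t = D.t * v) (hvu : v * u = u * v) : v = D.t := by
  obtain ⟨h3, h1⟩ := D.cube hu
  obtain ⟨y, hy, h | h⟩ := D.toSetup.decomp (D.toSetup.mem_C.mpr hvt)
  · subst h
    exact absurd ((D.hthree u huT h3 h1 v hy).2 hvu hv) hv1
  · have hyu : y * u = u * y := by
      rw [h, mul_assoc, ← mul_assoc u, D.toSetup.comm_t huT, mul_assoc] at hvu
      exact mul_left_cancel hvu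
    have hy2 : y * y = 1 := by rw [← D.toSetup.sq_eq hy, ← h]; exact hv
    rw [h, (D.hthree u huT h3 h1 y hy).2 hyu hy2, mul_one]

theorem not_conj_inv {u : G} (huT : u ∈ D.T) (hu : orderOf u = 3) (g : G) :
    g * u * g⁻¹ ≠ u⁻¹ := by
  intro hg
  obtain ⟨h3, h1⟩ := D.cube hu
  set t := D.t
  have ht2 : t * t = 1 := D.toSetup.t_sq
  have htu : t * u = u * t := (D.toSetup.comm_t huT).symm
  set x := g * t * g⁻¹ with hx
  have hx2 : x * x = 1 := conj_sq g t ht2
  have hx1 : x ≠ 1 := conj_ne_one g t D.toSetup.t_ne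
  have hxu : x * u = u * x := by
    have e : u = g * u⁻¹ * g⁻¹ := by
      rw [show g * u⁻¹ * g⁻¹ = (g * u * g⁻¹)⁻¹ by group, hg, inv_inv]
    have hc : t * u⁻¹ = u⁻¹ * t := (show Commute t u from htu).inv_right.eq
    calc x * u = x * (g * u⁻¹ * g⁻¹) := by rw [← e]
      _ = g * (t * u⁻¹) * g⁻¹ := by rw [hx]; group
      _ = (g * u⁻¹ * g⁻¹) * x := by rw [hc, hx]; group
      _ = _ := by rw [← e]
  -- `x` and `t` are conjugate in the centralizer of `u`
  obtain ⟨c, hcu, hc⟩ : ∃ c, c * u = u * c ∧ c * t * c⁻¹ = x := by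
    have hwu : ∀ k : ℕ, (x * t) ^ k * u = u * (x * t) ^ k := fun k =>
      ((show Commute x u from hxu).mul_left (show Commute t u from htu)).pow_left k
    have htw : ∀ k : ℕ, t * (x * t) ^ k * t = ((x * t) ^ k)⁻¹ := fun k => by
      have hti : t⁻¹ = t := inv_eq_of_mul_eq_one_left ht2
      have e : t * (x * t) * t⁻¹ = (x * t)⁻¹ := by
        rw [mul_inv_rev, hti, inv_eq_of_mul_eq_one_left hx2, mul_assoc t, mul_assoc x,
          ht2, mul_one]
      rw [← inv_pow, ← e, conj_pow, hti]
    rcases Nat.even_or_odd' (orderOf (x * t)) with ⟨i, hi | hi⟩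
    · have hpos := orderOf_pos (x * t)
      have hv2 : (x * t) ^ i * (x * t) ^ i = 1 := by
        rw [← pow_add, ← two_mul, ← hi]; exact pow_orderOf_eq_one _
      have hv1 : (x * t) ^ i ≠ 1 := fun h => by
        have := Nat.le_of_dvd (by omega) (orderOf_dvd_of_pow_eq_one h)
        omega
      have hvt : (x * t) ^ i * t = t * (x * t) ^ i := by
        have h := htw i
        rw [inv_eq_of_mul_eq_one_left hv2] at h
        calc (x * t) ^ i * t = t * (x * t) ^ i * t * t := by rw [h]
          _ = _ := by rw [mul_assoc _ t t, ht2, mul_one]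
      have hv := D.eq_t_of_cent huT hu hv2 hv1 hvt (hwu i)
      have hxt : x * t = t * x := by
        have h := ((Commute.refl (x * t)).pow_left i).eq
        rw [hv] at h
        have h' : t * x * t = x := by
          rw [mul_assoc, h, mul_assoc, ht2, mul_one]
        calc x * t = t * x * t * t := by rw [h']
          _ = _ := by rw [mul_assoc _ t t, ht2, mul_one]
      refine ⟨1, by rw [one_mul, mul_one], ?_⟩
      rw [one_mul, inv_one, mul_one]
      exact (D.eq_t_of_cent huT hu hx2 hx1 hxt hxu).symm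
    · refine ⟨(x * t) ^ (i + 1), hwu _, ?_⟩
      have h := htw (i + 1)
      calc (x * t) ^ (i + 1) * t * ((x * t) ^ (i + 1))⁻¹
          = (x * t) ^ (i + 1) * t * (t * (x * t) ^ (i + 1) * t) := by rw [h]
        _ = (x * t) ^ (i + 1) * (t * t) * (x * t) ^ (i + 1) * t := by group
        _ = (x * t) * t := by
          rw [ht2, mul_one, ← pow_add, show i + 1 + (i + 1) = orderOf (x * t) + 1 by omega, pow_succ,
            pow_orderOf_eq_one, one_mul]
        _ = x := by rw [mul_assoc, ht2, mul_one]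
  set g' := c⁻¹ * g with hg'
  have hg't : g' * t = t * g' := by
    calc g' * t = c⁻¹ * x * g := by rw [hg', hx]; group
      _ = _ := by rw [← hc, hg']; group
  have hg'u : g' * u * g'⁻¹ = u⁻¹ := by
    rw [hg', show c⁻¹ * g * u * (c⁻¹ * g)⁻¹ = c⁻¹ * (g * u * g⁻¹) * c by group, hg]
    have : u⁻¹ * c = c * u⁻¹ := ((show Commute c u from hcu).inv_right).eq.symm
    rw [mul_assoc, this, inv_mul_cancel_left]
  obtain ⟨y, hy, h | h⟩ := D.toSetup.decomp (D.toSetup.mem_C.mpr hg't)
  · exact (D.hthree u huT h3 h1 y hy).1 (h ▸ hg'u)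
  · refine (D.hthree u huT h3 h1 y hy).1 ?_
    rw [h] at hg'u
    calc y * u * y⁻¹ = t⁻¹ * (t * y * u * (t * y)⁻¹) * t := by group
      _ = _ := by
        rw [hg'u, mul_assoc, ← (show Commute t u⁻¹ from (show Commute t u from htu).inv_right).eq,
          inv_mul_cancel_left]

theorem notMem_core {u : G} (hu1 : u ≠ 1) : u ∉ D.M.normalCore := by
  intro hu
  rcases Nat.even_or_odd (Nat.card D.M.normalCore) with he | ho
  · have : Fact (Nat.Prime 2) := ⟨Nat.prime_two⟩
    obtain ⟨w, hw⟩ := exists_prime_orderOf_dvd_card' 2 (even_iff_two_dvd.mp he)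
    rw [← Subgroup.orderOf_coe] at hw
    obtain ⟨hw2, hw1⟩ := mul_self_of_orderOf hw
    have hout : 0 < Nat.card {v : Inv G // v.1 ∉ D.M} := by
      rw [D.card_out, D.card_G.2]; norm_num
    obtain ⟨⟨⟨v, hv2, hv1⟩, hvM⟩⟩ := (Nat.card_pos_iff.mp hout).1
    obtain ⟨a, ha⟩ := D.toSetup.conj_t hw2 hw1
    obtain ⟨b, hb⟩ := D.toSetup.conj_t hv2 hv1
    refine hvM (Subgroup.normalCore_le _ ?_)
    have h := (Subgroup.normalCore_normal D.M).conj_mem _ w.2 (b⁻¹ * a)
    rwa [show b⁻¹ * a * (w : G) * (b⁻¹ * a)⁻¹ = b⁻¹ * (a * w * a⁻¹) * b by group, ha, ← hb,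
      show b⁻¹ * (b * v * b⁻¹) * b = v by group] at h
  · have h := D.toSetup.eq_bot_of_odd _ ho fun s hs x hx => by
      have := (Subgroup.normalCore_normal D.M).conj_mem x hx s
      rwa [inv_eq_of_mul_eq_one_left (D.toSetup.S_sq hs)] at this
    rw [h] at hu
    exact hu1 hu

theorem exists_normal_three : ∃ K : Subgroup G, K.Normal ∧ Nat.card K = 504 ∧
    (∀ v : G, v * v = 1 → v ∈ K) ∧ ∀ v : G, orderOf v = 7 → v ∈ K := by
  classical
  have : Fact (Nat.Prime 3) := ⟨Nat.prime_three⟩
  obtain ⟨u, huT, hu⟩ := D.exists_u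
  obtain ⟨-, hu1⟩ := D.cube hu
  obtain ⟨hG, hidx⟩ := D.card_G
  have hz : IsPGroup 3 (Subgroup.zpowers u) :=
    IsPGroup.of_card (n := 1) (by rw [Nat.card_zpowers, hu, pow_one])
  obtain ⟨Q, hQ⟩ := hz.exists_le_sylow
  set H : Subgroup G := (Q : Subgroup G) with hH
  have huH : u ∈ H := hQ (Subgroup.mem_zpowers u)
  have hcardH : Nat.card H = 27 := by
    rw [hH, Sylow.card_eq_multiplicity, hG, show (1512 : ℕ) = 3 ^ 3 * 56 by norm_num,
      Nat.factorization_mul (by norm_num) (by norm_num), Finsupp.add_apply,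
      Nat.Prime.factorization_pow Nat.prime_three,
      Nat.factorization_eq_zero_of_not_dvd (by norm_num : ¬ 3 ∣ 56)]
    simp
  -- `H` is transitive on the cosets of `M`
  have huM : u ∈ D.M := D.C_le_M (D.toSetup.T_le huT)
  have hcap : H ⊓ D.M = Subgroup.zpowers u := by
    refine (Subgroup.eq_of_le_of_card_ge (le_inf hQ (Subgroup.zpowers_le.mpr huM)) ?_).symm
    rw [Nat.card_zpowers, hu]
    refine Nat.le_of_dvd (by norm_num) ?_
    have h1 : Nat.card (H ⊓ D.M : Subgroup G) ∣ 27 := hcardH ▸ Subgroup.card_dvd_of_le inf_le_left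
    have h2 : Nat.card (H ⊓ D.M : Subgroup G) ∣ 168 := D.card_M ▸ Subgroup.card_dvd_of_le inf_le_right
    exact Nat.dvd_gcd h1 h2
  have htrans : ∀ g : G, ∃ q ∈ H, q⁻¹ * g ∈ D.M := by
    let f : H ⧸ D.M.subgroupOf H → G ⧸ D.M := fun q => QuotientGroup.mk (q.out : G)
    have hinj : Function.Injective f := fun a b hab => by
      rw [← QuotientGroup.out_eq' a, ← QuotientGroup.out_eq' b, QuotientGroup.eq,
        Subgroup.mem_subgroupOf]
      exact QuotientGroup.eq.mp hab
    have hcard : Nat.card (H ⧸ D.M.subgroupOf H) = Nat.card (G ⧸ D.M) := by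
      have h := Subgroup.index_mul_card (D.M.subgroupOf H)
      rw [← Subgroup.inf_subgroupOf_left, Nat.card_congr (Subgroup.subgroupOfEquivOfLe inf_le_left).toEquiv,
        hcap, Nat.card_zpowers, hu, hcardH] at h
      show (D.M.subgroupOf H).index = D.M.index
      rw [hidx, ← Subgroup.inf_subgroupOf_left, hcap]
      omega
    have hbij := (Nat.bijective_iff_injective_and_card f).mpr ⟨hinj, hcard⟩
    intro g
    obtain ⟨q, hq⟩ := hbij.2 (QuotientGroup.mk g)
    exact ⟨(q.out : G), q.out.2, QuotientGroup.eq.mp hq⟩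
  -- `u` is not central in `H`
  have hucen : (⟨u, huH⟩ : H) ∉ Subgroup.center H := by
    intro hc
    refine D.notMem_core hu1 fun b => ?_
    obtain ⟨q, hq, hm⟩ := htrans b⁻¹
    have hcomm : q * u = u * q := congrArg Subtype.val (Subgroup.mem_center_iff.mp hc ⟨q, hq⟩)
    have h := mul_mem (mul_mem (inv_mem hm) huM) hm
    have e : (q⁻¹ * b⁻¹)⁻¹ * u * (q⁻¹ * b⁻¹) = b * u * b⁻¹ := by
      rw [show (q⁻¹ * b⁻¹)⁻¹ * u * (q⁻¹ * b⁻¹) = b * (q * u * q⁻¹) * b⁻¹ by group, hcomm,
        mul_inv_cancel_right]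
    rwa [e] at h
  -- the abelian quotient
  have hcen : Nat.card (H ⧸ Subgroup.center H) ∣ 9 := by
    have hnt : Nontrivial H := Finite.one_lt_card_iff_nontrivial.mp (by rw [hcardH]; norm_num)
    have hcn := Q.isPGroup'.center_nontrivial
    have h := Subgroup.index_mul_card (Subgroup.center H)
    rw [hcardH] at h
    have hd : Nat.card (Subgroup.center H) ∣ 3 ^ 3 := ⟨_, by rw [mul_comm, h]; norm_num⟩
    obtain ⟨j, hj, hj'⟩ := (Nat.dvd_prime_pow Nat.prime_three).mp hd
    have hgt : 1 < Nat.card (Subgroup.center H) := Finite.one_lt_card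
    show (Subgroup.center H).index ∣ 9
    rw [hj'] at h hgt
    interval_cases j
    · norm_num at hgt
    · exact dvd_of_eq (by omega)
    · exact ⟨3, by omega⟩
    · exact ⟨9, by omega⟩
  have hcomm : ∀ a b : H ⧸ Subgroup.center H, a * b = b * a := by
    obtain ⟨j, hj, hj'⟩ := (Nat.dvd_prime_pow Nat.prime_three).mp (show _ ∣ 3 ^ 2 from hcen)
    interval_cases j
    · have : Subsingleton (H ⧸ Subgroup.center H) :=
        Finite.card_le_one_iff_subsingleton.mp (by rw [hj']; norm_num)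
      intro a b; exact Subsingleton.elim _ _
    · have := isCyclic_of_prime_card (p := 3) (by rw [hj']; norm_num : Nat.card (H ⧸ Subgroup.center H) = 3)
      have := IsCyclic.isMulCommutative (α := H ⧸ Subgroup.center H)
      exact mul_comm'
    · have := IsPGroup.isMulCommutative_of_card_eq_prime_sq hj'
      exact mul_comm'
  letI : CommGroup (H ⧸ Subgroup.center H) :=
    { QuotientGroup.Quotient.group (Subgroup.center H) with mul_comm := hcomm }
  let φ : H →* H ⧸ Subgroup.center H := QuotientGroup.mk' (Subgroup.center H)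
  have hφu : φ ⟨u, huH⟩ ≠ 1 := fun h => hucen ((QuotientGroup.eq_one_iff _).mp h)
  have hconj : ∀ (g : G) (h : g⁻¹ * u * g ∈ H), φ ⟨_, h⟩ = φ ⟨u, huH⟩ := by
    intro g h
    obtain ⟨q, hq, hm⟩ := htrans g⁻¹
    have hmem : q⁻¹ * (g⁻¹ * u * g) * q ∈ H ⊓ D.M := by
      refine Subgroup.mem_inf.mpr ⟨H.mul_mem (H.mul_mem (H.inv_mem hq) h) hq, ?_⟩
      have := mul_mem (mul_mem hm huM) (inv_mem hm)
      rwa [show q⁻¹ * g⁻¹ * u * (q⁻¹ * g⁻¹)⁻¹ = q⁻¹ * (g⁻¹ * u * g) * q by group] at this
    rw [hcap] at hmem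
    obtain ⟨k, hk⟩ := Subgroup.mem_zpowers_iff.mp hmem
    have e : q⁻¹ * (g⁻¹ * u * g) * q = u := by
      rw [← hk, ← zpow_mod_orderOf u k, hu]
      have h0 : k % (3 : ℕ) = 0 ∨ k % (3 : ℕ) = 1 ∨ k % (3 : ℕ) = 2 := by omega
      rcases h0 with h0 | h0 | h0 <;> rw [h0]
      · exfalso
        have hk0 : q⁻¹ * (g⁻¹ * u * g) * q = 1 := by
          rw [← hk, ← zpow_mod_orderOf u k, hu, h0, zpow_zero]
        apply hu1
        calc u = g * (q * (q⁻¹ * (g⁻¹ * u * g) * q) * q⁻¹) * g⁻¹ := by group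
          _ = _ := by rw [hk0]; group
      · exact zpow_one u
      · exfalso
        refine D.not_conj_inv huT hu (q⁻¹ * g⁻¹) ?_
        rw [show q⁻¹ * g⁻¹ * u * (q⁻¹ * g⁻¹)⁻¹ = q⁻¹ * (g⁻¹ * u * g) * q by group, ← hk,
          ← zpow_mod_orderOf u k, hu, h0, eq_comm, inv_eq_iff_mul_eq_one, zpow_two]
        rw [← mul_assoc]
        exact (D.cube hu).1
    calc φ ⟨g⁻¹ * u * g, h⟩
        = φ (⟨q, hq⟩ * ⟨u, huH⟩ * ⟨q, hq⟩⁻¹) := by
          congr 1
          apply Subtype.ext
          show g⁻¹ * u * g = q * u * q⁻¹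
          conv_rhs => rw [← e]
          group
      _ = φ ⟨u, huH⟩ := by rw [map_mul, map_mul, map_inv, mul_right_comm, mul_inv_cancel, one_mul]
  -- transfer
  let _ := H.fintypeQuotientOfFiniteIndex
  have hfix : ∀ q : G ⧸ H, u • q = q ↔ q.out⁻¹ * u * q.out ∈ H := by
    intro q
    conv_lhs => rw [← QuotientGroup.out_eq' q]
    rw [MulAction.Quotient.smul_mk, eq_comm, QuotientGroup.eq, smul_eq_mul, mul_assoc]
  have hu3 : u ^ 3 = 1 := hu ▸ pow_orderOf_eq_one u
  let f : G ⧸ H → H ⧸ Subgroup.center H := fun q => if u • q = q then φ ⟨u, huH⟩ else 1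
  have hprod : MonoidHom.transfer φ u = ∏ q : G ⧸ H, f q := by
    rw [MonoidHom.transfer_eq_prod_quotient_orbitRel_zpowers_quot φ u,
      ← Finset.prod_fiberwise Finset.univ
        (Quotient.mk (MulAction.orbitRel (Subgroup.zpowers u) (G ⧸ H))) f]
    refine Finset.prod_congr rfl (fun o _ => ?_)
    have horb : ∀ x : G ⧸ H, Quotient.mk (MulAction.orbitRel (Subgroup.zpowers u) (G ⧸ H)) x = o →
        ∃ k : ℤ, u ^ k • o.out = x := by
      intro x hx
      have hrel : (MulAction.orbitRel (Subgroup.zpowers u) (G ⧸ H)) x o.out :=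
        Quotient.exact (hx.trans (Quotient.out_eq o).symm)
      obtain ⟨⟨_, k, rfl⟩, hw⟩ := hrel
      exact ⟨k, hw⟩
    by_cases hfx : u • o.out = o.out
    · have hper : Function.minimalPeriod (u • ·) o.out = 1 :=
        Function.minimalPeriod_eq_one_iff_isFixedPt.mpr hfx
      rw [Finset.prod_eq_single o.out]
      · simp only [f, if_pos hfx]
        rw [← hconj o.out.out ((hfix _).mp hfx)]
        congr 1
        apply Subtype.ext
        simp only
        rw [hper, pow_one]
      · intro x hx hne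
        obtain ⟨k, hk⟩ := horb x (by simpa using hx)
        exfalso; apply hne
        rw [← hk]
        have : ∀ m : ℤ, u ^ m ∈ MulAction.stabilizer G o.out := fun m => Subgroup.zpow_mem _ hfx m
        exact this k
      · intro h; simp at h
    · have hper : Function.minimalPeriod (u • ·) o.out = 3 := by
        apply Function.minimalPeriod_eq_prime
        · show u • u • u • o.out = o.out
          rw [← mul_smul, ← mul_smul, (D.cube hu).1, one_smul]
        · exact hfx
      rw [Finset.prod_eq_one]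
      · symm
        have : (⟨o.out.out⁻¹ * u ^ Function.minimalPeriod (u • ·) o.out * o.out.out,
            QuotientGroup.out_conj_pow_minimalPeriod_mem H u o.out⟩ : H) = 1 := by
          apply Subtype.ext
          simp only [hper, hu3, mul_one, inv_mul_cancel]; rfl
        rw [this, map_one]
      · intro x hx
        obtain ⟨k, hk⟩ := horb x (by simpa using hx)
        have hnx : ¬ u • x = x := by
          intro h; apply hfx
          rw [← hk, ← mul_smul, (Commute.self_zpow u k).eq, mul_smul] at h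
          exact smul_left_cancel _ h
        simp only [f, if_neg hnx]
  have hV : MonoidHom.transfer φ u ≠ 1 := by
    rw [hprod]
    simp only [f, Finset.prod_ite, Finset.prod_const, one_pow, mul_one]
    intro h1
    have hdvd := orderOf_dvd_of_pow_eq_one h1
    have ho : orderOf (φ ⟨u, huH⟩) = 3 := orderOf_eq_prime (by
      rw [← map_pow]; exact (congrArg φ (Subtype.ext hu3)).trans (map_one φ)) hφu
    rw [ho] at hdvd
    have hm := hz.card_modEq_card_fixedPoints (G ⧸ H)
    have hset : Nat.card (MulAction.fixedPoints (Subgroup.zpowers u) (G ⧸ H)) =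
        (Finset.univ.filter (fun q : G ⧸ H => u • q = q)).card := by
      rw [← Nat.card_eq_finsetCard]
      refine Nat.card_congr (Equiv.subtypeEquivRight fun q => ?_)
      simp only [MulAction.mem_fixedPoints, Finset.mem_filter, Finset.mem_univ, true_and]
      refine ⟨fun h => h ⟨u, Subgroup.mem_zpowers u⟩, fun h w => ?_⟩
      have : (w : G) ∈ MulAction.stabilizer G q := (Subgroup.zpowers_le.mpr h) w.2
      exact this
    rw [hset] at hm
    have hi : ¬ 3 ∣ Nat.card (G ⧸ H) := Q.not_dvd_index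
    unfold Nat.ModEq at hm
    omega
  set V := MonoidHom.transfer φ
  refine ⟨V.ker, inferInstance, ?_, ?_⟩
  all_goals
    have hkill : ∀ v : G, (orderOf v).Coprime 3 → v ∈ V.ker := fun v hv => by
      rw [MonoidHom.mem_ker, ← orderOf_eq_one_iff]
      refine Nat.eq_one_of_dvd_coprimes (show Nat.Coprime (orderOf v) (3 ^ 2) from hv.pow_right 2)
        (orderOf_map_dvd V v) ((orderOf_dvd_natCard _).trans hcen)
    have hinv : ∀ v : G, v * v = 1 → v ∈ V.ker := fun v hv => by
      by_cases h : v = 1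
      · rw [h]; exact one_mem _
      exact hkill v (by rw [orderOf_eq_two' hv h]; norm_num)
  rotate_left
  · exact ⟨hinv, fun v hv => hkill v (by rw [hv]; norm_num)⟩
  have hS : (D.S : Subgroup G) ≤ V.ker := fun s hs => hinv s (D.toSetup.S_sq hs)
  have h8 : 8 ∣ Nat.card V.ker := D.toSetup.card_S ▸ Subgroup.card_dvd_of_le hS
  have h9 : 9 ∣ Nat.card V.ker := by
    have : Fact (Nat.Prime 2) := ⟨Nat.prime_two⟩
    have hsup : D.M ⊔ V.ker = ⊤ := Sylow.normalizer_sup_eq_top' D.S hS
    rw [← hidx]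
    exact index_dvd_card_of_sup _ _ hsup
  have h7 : 7 ∣ Nat.card V.ker := by
    obtain ⟨p, -, hp⟩ := D.exists_p
    exact hp ▸ Subgroup.orderOf_dvd_natCard _ (hkill p (by rw [hp]; norm_num))
  have hd : Nat.card V.ker ∣ 1512 := hG ▸ Subgroup.card_subgroup_dvd_card _
  have hne : Nat.card V.ker ≠ 1512 := fun h => by
    have : V.ker = ⊤ := Subgroup.eq_top_of_card_eq _ (h.trans hG.symm)
    exact hV (show u ∈ V.ker by rw [this]; trivial)
  have h504 : 504 ∣ Nat.card V.ker := by
    have := Nat.Coprime.mul_dvd_of_dvd_of_dvd (by norm_num : Nat.Coprime (8 * 9) 7)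
      (Nat.Coprime.mul_dvd_of_dvd_of_dvd (by norm_num : Nat.Coprime 8 9) h8 h9) h7
    exact this
  obtain ⟨c, hc⟩ := h504
  have : c ∣ 3 := Nat.dvd_of_mul_dvd_mul_left (by norm_num : (0:ℕ) < 504) (by rw [← hc]; exact hd)
  rcases (Nat.dvd_prime Nat.prime_three).mp this with rfl | rfl <;> omega

theorem isSimple {K : Subgroup G} (hKn : K.Normal) (hK : Nat.card K = 504)
    (hinv : ∀ v : G, v * v = 1 → v ∈ K) (h7 : ∀ v : G, orderOf v = 7 → v ∈ K) :
    IsSimpleGroup K := by
  classical
  have : Fact (Nat.Prime 2) := ⟨Nat.prime_two⟩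
  have hnt : Nontrivial K := Finite.one_lt_card_iff_nontrivial.mp (by rw [hK]; norm_num)
  have hS : (D.S : Subgroup G) ≤ K := fun s hs => hinv s (D.toSetup.S_sq hs)
  refine ⟨fun L hLn => ?_⟩
  rw [or_iff_not_imp_left]
  intro hL
  set L' := L.map K.subtype with hL'
  have hmem : ∀ x : G, x ∈ L' ↔ ∃ h : x ∈ K, (⟨x, h⟩ : K) ∈ L := fun x =>
    ⟨fun hx => by obtain ⟨y, hy, rfl⟩ := Subgroup.mem_map.mp hx; exact ⟨y.2, hy⟩,
      fun ⟨h, hx⟩ => Subgroup.mem_map.mpr ⟨⟨x, h⟩, hx, rfl⟩⟩
  have hcard : Nat.card L' = Nat.card L := Subgroup.card_map_of_injective K.subtype_injective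
  have hnorm : ∀ k ∈ K, ∀ x ∈ L', k * x * k⁻¹ ∈ L' := fun k hk x hx => by
    obtain ⟨h, hx⟩ := (hmem x).mp hx
    exact (hmem _).mpr ⟨mul_mem (mul_mem hk h) (inv_mem hk), hLn.conj_mem _ hx ⟨k, hk⟩⟩
  have hodd : ∀ R : Subgroup G, Odd (Nat.card R) → (∀ s ∈ (D.S : Subgroup G), ∀ x ∈ R, s * x * s⁻¹ ∈ R) →
      R = ⊥ := fun R hR h => D.toSetup.eq_bot_of_odd R hR fun s hs x hx => by
    have := h s hs x hx
    rwa [inv_eq_of_mul_eq_one_left (D.toSetup.S_sq hs)] at this
  -- `L'` contains an involution, hence all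
  have heven : 2 ∣ Nat.card L' := by
    by_contra h
    have h' := hodd L' (Nat.odd_iff.mpr (by omega)) fun s hs x hx => hnorm s (hS hs) x hx
    refine hL (Subgroup.card_eq_one.mp ?_)
    rw [← hcard, h', Subgroup.card_bot]
  obtain ⟨p, hpM, hp⟩ := D.exists_p
  have hSL : (D.S : Subgroup G) ≤ L' := by
    obtain ⟨w, hw⟩ := exists_prime_orderOf_dvd_card' 2 heven
    rw [← Subgroup.orderOf_coe] at hw
    obtain ⟨hw2, hw1⟩ := mul_self_of_orderOf hw
    have hwK : (w : G) ∈ K := hinv _ hw2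
    have hz : IsPGroup 2 (Subgroup.zpowers (⟨w, hwK⟩ : K)) :=
      IsPGroup.of_card (n := 1) (by rw [Nat.card_zpowers, Subgroup.orderOf_mk, hw, pow_one])
    obtain ⟨R, hR⟩ := hz.exists_le_sylow
    obtain ⟨k, hk⟩ := MulAction.exists_smul_eq K R (D.S.subtype hS)
    set s := (k : G) * w * (k : G)⁻¹ with hs
    have hsS : s ∈ (D.S : Subgroup G) := by
      have h1 := Subgroup.smul_mem_pointwise_smul _ (MulAut.conj k) _ (hR (Subgroup.mem_zpowers _))
      have h2 : MulAut.conj k • (⟨w, hwK⟩ : K) ∈ ((D.S.subtype hS : Sylow 2 K) : Subgroup K) := by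
        rw [← hk, Sylow.coe_subgroup_smul]; exact h1
      exact h2
    have hsL : s ∈ L' := hnorm _ k.2 _ w.2
    have hs1 : s ≠ 1 := conj_ne_one _ _ hw1
    intro x hx
    by_cases hx1 : x = 1
    · rw [hx1]; exact one_mem _
    let F : Fin 7 → G := fun i => p ^ (i : ℕ) * s * (p ^ (i : ℕ))⁻¹
    have hFS : ∀ i, F i ∈ ((D.S : Subgroup G) : Set G) \ {1} := fun i =>
      ⟨(Subgroup.mem_normalizer_iff.mp (D.M.pow_mem hpM _) _).mp hsS, conj_ne_one _ _ hs1⟩
    have hinj : Function.Injective F := by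
      intro i j hij
      by_contra hne
      wlog hlt : (i : ℕ) < (j : ℕ) generalizing i j
      · exact this hij.symm (fun h => hne h.symm) (by have := Fin.val_ne_of_ne hne; omega)
      set d := (j : ℕ) - (i : ℕ) with hd
      have hd' : orderOf (p ^ d) = 7 := by
        rw [orderOf_pow' p (by omega), hp, Nat.Coprime.gcd_eq_one, Nat.div_one]
        exact (Nat.Prime.coprime_iff_not_dvd (by norm_num)).mpr fun h => by
          have := Nat.le_of_dvd (by omega) h
          omega
      refine D.no_comm_invol hd' (D.toSetup.S_sq hsS) hs1 ?_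
      have e : p ^ (j : ℕ) = p ^ (i : ℕ) * p ^ d := by rw [← pow_add]; congr 1; omega
      simp only [F, e] at hij
      rw [← mul_inv_eq_iff_eq_mul, ← mul_right_inj (p ^ (i : ℕ)), ← mul_left_inj (p ^ (i : ℕ))⁻¹]
      calc p ^ (i : ℕ) * (p ^ d * s * (p ^ d)⁻¹) * (p ^ (i : ℕ))⁻¹
          = p ^ (i : ℕ) * p ^ d * s * (p ^ (i : ℕ) * p ^ d)⁻¹ := by group
        _ = _ := hij.symm
    have hrange : Set.range F = ((D.S : Subgroup G) : Set G) \ {1} := by
      refine Set.eq_of_subset_of_ncard_le (Set.range_subset_iff.mpr hFS) ?_ (Set.toFinite _)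
      rw [Set.ncard_range_of_injective hinj, Set.ncard_sdiff_singleton_of_mem (Subgroup.one_mem _),
        ← Nat.card_coe_set_eq, Nat.card_fin]
      exact Nat.sub_le_iff_le_add.mpr (le_of_eq D.toSetup.card_S)
    obtain ⟨i, rfl⟩ : x ∈ Set.range F := hrange ▸ ⟨hx, hx1⟩
    exact hnorm _ (pow_mem (h7 p hp) _) _ hsL
  have hall : ∀ v : G, v * v = 1 → v ∈ L' := fun v hv => by
    by_cases hv1 : v = 1
    · rw [hv1]; exact one_mem _
    have hvK := hinv v hv
    have hz : IsPGroup 2 (Subgroup.zpowers (⟨v, hvK⟩ : K)) :=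
      IsPGroup.of_card (n := 1) (by
        rw [Nat.card_zpowers, Subgroup.orderOf_mk, orderOf_eq_two' hv hv1, pow_one])
    obtain ⟨R, hR⟩ := hz.exists_le_sylow
    obtain ⟨k, hk⟩ := MulAction.exists_smul_eq K R (D.S.subtype hS)
    have h1 := Subgroup.smul_mem_pointwise_smul _ (MulAut.conj k) _ (hR (Subgroup.mem_zpowers _))
    have h2 : MulAut.conj k • (⟨v, hvK⟩ : K) ∈ ((D.S.subtype hS : Sylow 2 K) : Subgroup K) := by
      rw [← hk, Sylow.coe_subgroup_smul]; exact h1
    have h3 := hnorm _ (inv_mem k.2) _ (hSL h2)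
    simpa [MulAut.smul_def, mul_assoc] using h3
  have h9 : 9 ∣ Nat.card L' := by
    have hLS : (((D.S.subtype hS : Sylow 2 K)) : Subgroup K) ≤ L := fun x hx => by
      obtain ⟨h, h'⟩ := (hmem x).mp (hSL hx)
      exact h'
    have hsup := Sylow.normalizer_sup_eq_top' (D.S.subtype hS) hLS
    set NK := Subgroup.normalizer (((D.S.subtype hS : Sylow 2 K) : Subgroup K) : Set K)
    have h := index_dvd_card_of_sup NK L hsup
    have hidx : NK.index = 9 := by
      have e : NK = D.M.subgroupOf K := by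
        ext x
        rw [Subgroup.mem_subgroupOf, Subgroup.mem_normalizer_iff]
        constructor
        · intro hx
          refine Subgroup.mem_normalizer_iff.mpr fun s => ⟨fun hs => ?_, fun hs => ?_⟩
          · exact (hx ⟨s, hS hs⟩).mp hs
          · have hsK : s ∈ K := by
              have := hKn.conj_mem _ (hS hs) (x : G)⁻¹
              simpa [mul_assoc] using this
            exact (hx ⟨s, hsK⟩).mpr hs
        · exact fun hx s => Subgroup.mem_normalizer_iff.mp hx s
      have hsupG : D.M ⊔ K = ⊤ := Sylow.normalizer_sup_eq_top' D.S hS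
      have h1 := index_dvd_card_of_sup D.M K hsupG
      have h2 := Subgroup.relIndex_mul_index (inf_le_left : D.M ⊓ K ≤ D.M)
      have h3 := Subgroup.relIndex_mul_index (inf_le_right : D.M ⊓ K ≤ K)
      have h4 : K.relIndex D.M = K.index := by
        have h' := Subgroup.relIndex_sup_right D.M K
        rw [hsupG, Subgroup.relIndex_top_right] at h'
        exact h'.symm
      rw [Subgroup.inf_relIndex_left, h4, D.card_G.2] at h2
      rw [Subgroup.inf_relIndex_right, ← h2, mul_comm, Nat.mul_left_cancel_iff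
        (Nat.pos_of_ne_zero Subgroup.index_ne_zero_of_finite)] at h3
      rw [e]; exact h3
    rw [hcard, ← hidx]
    exact h
  have h8 : 8 ∣ Nat.card L' := D.toSetup.card_S ▸ Subgroup.card_dvd_of_le hSL
  have h72 : 72 ∣ Nat.card L' := Nat.Coprime.mul_dvd_of_dvd_of_dvd (by norm_num : Nat.Coprime 8 9) h8 h9
  obtain ⟨c, hc⟩ := h72
  have hd : Nat.card L' ∣ 504 := by rw [hcard, ← hK]; exact Subgroup.card_subgroup_dvd_card L
  have hc7 : c ∣ 7 := Nat.dvd_of_mul_dvd_mul_left (by norm_num : (0:ℕ) < 72) (by rw [← hc]; exact hd)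
  rcases (Nat.dvd_prime (by norm_num)).mp hc7 with rfl | rfl
  swap
  · exact Subgroup.eq_top_of_card_eq L (by rw [← hcard, hc, hK])
  -- order 72 is impossible
  exfalso
  have : Fact (Nat.Prime 3) := ⟨Nat.prime_three⟩
  obtain ⟨R⟩ := (inferInstance : Nonempty (Sylow 3 L'))
  set R' := (R : Subgroup L').map L'.subtype with hR'
  have hR9 : Nat.card R' = 9 := by
    rw [Subgroup.card_map_of_injective L'.subtype_injective, Sylow.card_eq_multiplicity, hc,
      show (72 * 1 : ℕ) = 3 ^ 2 * 8 by norm_num, Nat.factorization_mul (by norm_num) (by norm_num),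
      Finsupp.add_apply, Nat.Prime.factorization_pow Nat.prime_three,
      Nat.factorization_eq_zero_of_not_dvd (by norm_num : ¬ 3 ∣ 8)]
    simp
  have hodd9 : Odd (Nat.card R') := by rw [hR9]; decide
  have hunion : (L' : Set G) = (R' : Set G) ∪ {v | v * v = 1 ∧ v ≠ 1} := by
    refine (Set.eq_of_subset_of_ncard_le ?_ ?_ (Set.toFinite _)).symm
    · rintro x (hx | hx)
      · obtain ⟨y, -, rfl⟩ := Subgroup.mem_map.mp hx; exact y.2
      · exact hall x hx.1
    · rw [Set.ncard_union_eq ?_ (Set.toFinite _) (Set.toFinite _)]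
      · rw [← Nat.card_coe_set_eq, ← Nat.card_coe_set_eq, ← Nat.card_coe_set_eq]
        have h63 : Nat.card {v : G | v * v = 1 ∧ v ≠ 1} = 63 := by
          have := D.card_inv
          rw [D.card_G.2] at this
          exact this
        simp only [SetLike.coe_sort_coe]
        rw [hc, hR9, h63]
      · rw [Set.disjoint_left]
        exact fun x hx hx' => hx'.2 (eq_one_of_sq hodd9 hx hx'.1)
  have hbot := hodd R' hodd9 fun s hs x hx => by
    have hxL : x ∈ L' := by
      obtain ⟨y, -, rfl⟩ := Subgroup.mem_map.mp hx; exact y.2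
    have h : s * x * s⁻¹ ∈ (R' : Set G) ∪ {v | v * v = 1 ∧ v ≠ 1} :=
      hunion ▸ hnorm s (hS hs) x hxL
    rcases h with h | ⟨h, h1⟩
    · exact h
    · exfalso
      have hx2 : x * x = 1 := by
        have := conj_sq s⁻¹ _ h
        rwa [show s⁻¹ * (s * x * s⁻¹) * s⁻¹⁻¹ = x by group] at this
      apply h1
      rw [eq_one_of_sq hodd9 hx hx2]; group
  rw [hbot, Subgroup.card_bot] at hR9
  omega

theorem card_mulAut {F : Type} [Field F] [Fintype F] (hF : Fintype.card F = 8)
    (hP : Nat.card (Matrix.ProjectiveSpecialLinearGroup (Fin 2) F) = 504) :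
    Nat.card (MulAut (Matrix.ProjectiveSpecialLinearGroup (Fin 2) F)) = 1512 := by
  have : Fact (Nat.Prime 2) := ⟨Nat.prime_two⟩
  rw [Cfsg.Agent.S0813.result (F := F) 2 3 (by norm_num) (by rw [hF]; norm_num) 2 le_rfl
    (fun _ => by norm_num), Cfsg.Agent.S0265.result (F := F) 2]
  have hc : CharP F 2 := by
    obtain ⟨q, hq⟩ := CharP.exists F
    have hqp : q.Prime := CharP.char_is_prime F q
    have h8 : ((8 : ℕ) : F) = 0 := by rw [← hF]; exact Nat.cast_card_eq_zero F
    have : q ∣ 2 ^ 3 := by norm_num; exact (CharP.cast_eq_zero_iff F q 8).mp h8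
    rwa [(Nat.prime_dvd_prime_iff_eq hqp Nat.prime_two).mp (hqp.dvd_of_dvd_pow this)] at hq
  have hz : Nat.card (Subgroup.center (Matrix.SpecialLinearGroup (Fin 2) F)) = 1 := by
    rw [Nat.card_congr Matrix.SpecialLinearGroup.center_equiv_rootsOfUnity.toEquiv]
    refine Nat.card_eq_one_iff_exists.mpr ⟨1, fun x => ?_⟩
    have hx : ((x : Fˣ) : F) ^ 2 = 1 := by
      have h := (mem_rootsOfUnity _ _).mp x.2
      simp only [Fintype.card_fin] at h
      simpa using congrArg Units.val h
    have h0 : (((x : Fˣ) : F) - 1) ^ 2 = 0 := by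
      rw [CharTwo.sub_eq_add, CharTwo.add_sq, hx, one_pow, CharTwo.add_self_eq_zero]
    have h1 : ((x : Fˣ) : F) = 1 := sub_eq_zero.mp (pow_eq_zero_iff two_ne_zero |>.mp h0)
    exact Subtype.ext (Units.ext h1)
  have hSL : Nat.card (Matrix.SpecialLinearGroup (Fin 2) F) = 504 := by
    rw [← Subgroup.index_mul_card (Subgroup.center (Matrix.SpecialLinearGroup (Fin 2) F)), hz, mul_one]
    exact hP
  rw [hSL]; simp

theorem iso : ∃ (F : Type) (_ : Field F) (_ : Fintype F), Fintype.card F = 8 ∧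
    Nonempty (G ≃* MulAut (Matrix.ProjectiveSpecialLinearGroup (Fin 2) F)) := by
  classical
  have : Fact (Nat.Prime 2) := ⟨Nat.prime_two⟩
  obtain ⟨K, hKn, hK, hinv, h7⟩ := D.exists_normal_three
  have := D.isSimple hKn hK hinv h7
  let F := GaloisField 2 3
  letI : Fintype F := Fintype.ofFinite F
  have hF : Fintype.card F = 8 := by
    rw [← Nat.card_eq_fintype_card]; exact GaloisField.card 2 3 (by norm_num)
  refine ⟨F, inferInstance, inferInstance, hF, ?_⟩
  obtain ⟨e⟩ := Cfsg.Agent.S1011.result hK hF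
  have hP : Nat.card (Matrix.ProjectiveSpecialLinearGroup (Fin 2) F) = 504 :=
    (Nat.card_congr e.toEquiv).symm.trans hK
  let f : G →* MulAut (Matrix.ProjectiveSpecialLinearGroup (Fin 2) F) :=
    (MulAut.congr e).toMonoidHom.comp MulAut.conjNormal
  have hinj : Function.Injective f := by
    rw [injective_iff_map_eq_one]
    intro x hx
    have hx' : MulAut.conjNormal x = (1 : MulAut K) :=
      (MulAut.congr e).injective (hx.trans (map_one _).symm)
    have hcomm : ∀ k ∈ K, x * k = k * x := fun k hk => by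
      have := congrArg (fun a : MulAut K => ((a ⟨k, hk⟩ : K) : G)) hx'
      simp only [MulAut.conjNormal_apply, MulAut.one_apply] at this
      exact mul_inv_eq_iff_eq_mul.mp this
    have hxS := D.toSetup.mem_S_of_centralizes fun s hs => hcomm s (hinv s (D.toSetup.S_sq hs))
    by_contra hx1
    obtain ⟨p, -, hp⟩ := D.exists_p
    exact D.no_comm_invol hp (D.toSetup.S_sq hxS) hx1 (hcomm p (h7 p hp)).symm
  have hbij : Function.Bijective f :=
    (Nat.bijective_iff_injective_and_card f).mpr ⟨hinj, by rw [D.card_mulAut hF hP, D.card_G.1]⟩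
  exact ⟨MulEquiv.ofBijective f hbij⟩

end Four

end Cfsg.Agent.Blocks88.TwoByAlt
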