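import Cfsg.Agent.Blocks88.TwoByAlt.Setup
import Cfsg.Agent.Blocks88.TwoByAlt.AltLemmas

/-!
# Degrees other than 4 and 5 are impossible
-/

set_option autoImplicit false
set_option linter.unusedSectionVars false

namespace Cfsg.Agent.Blocks88.TwoByAlt

/-- An involution in the centre of a Sylow subgroup with a direct factor `T` of its centralizer. -/
structure Base (G : Type*) [Group G] where
  t : G
  T : Subgroup G
  S : Sylow 2 G
  ht : orderOf t = 2
  htS : t ∈ (S : Subgroup G)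
  hcS : ∀ x ∈ (S : Subgroup G), x * t = t * x
  hd : Cfsg.IsInternalDirectProduct (Subgroup.zpowers t) T (Subgroup.centralizer ({t} : Set G))
  h2 : ∀ N : Subgroup G, N.Normal → N.index ≠ 2

namespace Base

variable {G : Type*} [Group G] [Finite G] (D : Base G)

theorem t_sq : D.t * D.t = 1 := (mul_self_of_orderOf D.ht).1

theorem t_ne : D.t ≠ 1 := (mul_self_of_orderOf D.ht).2

theorem t_inv : D.t⁻¹ = D.t := inv_eq_of_mul_eq_one_left D.t_sq

theorem mem_C {x : G} : x ∈ (Subgroup.centralizer ({D.t} : Set G)) ↔ x * D.t = D.t * x :=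
  Subgroup.mem_centralizer_singleton_iff

theorem T_le : D.T ≤ (Subgroup.centralizer ({D.t} : Set G)) := D.hd.2.1

theorem S_le : (D.S : Subgroup G) ≤ (Subgroup.centralizer ({D.t} : Set G)) := fun x hx => D.mem_C.mpr (D.hcS x hx)

theorem comm_t {y : G} (hy : y ∈ D.T) : y * D.t = D.t * y := D.mem_C.mp (D.T_le hy)

theorem t_notMem : D.t ∉ D.T := fun h =>
  D.t_ne (by
    have : D.t ∈ Subgroup.zpowers D.t ⊓ D.T := ⟨Subgroup.mem_zpowers _, h⟩
    rw [D.hd.2.2.2.1] at this
    exact this)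

theorem decomp {x : G} (hx : x ∈ (Subgroup.centralizer ({D.t} : Set G))) : ∃ y ∈ D.T, x = y ∨ x = D.t * y := by
  rw [← D.hd.2.2.2.2] at hx
  rw [Subgroup.sup_eq_closure] at hx
  induction hx using Subgroup.closure_induction with
  | mem z hz =>
    rcases hz with hz | hz
    · obtain ⟨k, rfl⟩ := Subgroup.mem_zpowers_iff.mp hz
      refine ⟨1, D.T.one_mem, ?_⟩
      rcases Int.even_or_odd k with ⟨i, rfl⟩ | ⟨i, rfl⟩
      · left
        rw [zpow_add, ← (Commute.refl D.t).mul_zpow, D.t_sq, one_zpow]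
      · right
        rw [zpow_add_one, two_mul, zpow_add, ← (Commute.refl D.t).mul_zpow, D.t_sq, one_zpow,
          one_mul, mul_one]
    · exact ⟨z, hz, Or.inl rfl⟩
  | one => exact ⟨1, D.T.one_mem, Or.inl rfl⟩
  | mul a b _ _ iha ihb =>
    obtain ⟨y, hy, hy'⟩ := iha
    obtain ⟨z, hz, hz'⟩ := ihb
    refine ⟨y * z, D.T.mul_mem hy hz, ?_⟩
    rcases hy' with hy' | hy' <;> rcases hz' with hz' | hz' <;> subst hy' <;> subst hz'
    · exact Or.inl rfl
    · exact Or.inr (by rw [← mul_assoc, D.comm_t hy, mul_assoc])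
    · exact Or.inr (by rw [mul_assoc])
    · refine Or.inl ?_
      calc D.t * y * (D.t * z) = D.t * (y * D.t) * z := by group
        _ = D.t * D.t * y * z := by rw [D.comm_t hy]; group
        _ = _ := by rw [D.t_sq, one_mul]
  | inv a _ iha =>
    obtain ⟨y, hy, hy'⟩ := iha
    refine ⟨y⁻¹, D.T.inv_mem hy, ?_⟩
    rcases hy' with hy' | hy' <;> subst hy'
    · exact Or.inl rfl
    · exact Or.inr (by rw [mul_inv_rev, D.t_inv, D.comm_t (D.T.inv_mem hy)])

theorem sq_eq {y : G} (hy : y ∈ D.T) : (D.t * y) * (D.t * y) = y * y := by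
  calc D.t * y * (D.t * y) = D.t * (y * D.t) * y := by group
    _ = D.t * D.t * (y * y) := by rw [D.comm_t hy]; group
    _ = _ := by rw [D.t_sq, one_mul]

theorem index_T : (D.T.subgroupOf (Subgroup.centralizer ({D.t} : Set G))).index = 2 := by
  rw [Subgroup.index_eq_two_iff]
  refine ⟨⟨D.t, D.mem_C.mpr rfl⟩, fun b => ?_⟩
  simp only [Subgroup.mem_subgroupOf, Subgroup.coe_mul]
  obtain ⟨y, hy, hb | hb⟩ := D.decomp b.2
  · right
    refine ⟨hb ▸ hy, fun h => D.t_notMem ?_⟩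
    rw [hb] at h
    have := D.T.mul_mem (D.T.inv_mem hy) h
    rwa [inv_mul_cancel_left] at this
  · left
    refine ⟨?_, fun h => D.t_notMem ?_⟩
    · rw [hb, mul_assoc, D.comm_t hy, ← mul_assoc, D.t_sq, one_mul]; exact hy
    · rw [hb] at h
      have := D.T.mul_mem h (D.T.inv_mem hy)
      rwa [mul_inv_cancel_right] at this

theorem relIndex_inter : ((D.S : Subgroup G) ⊓ D.T).relIndex (D.S : Subgroup G) = 2 := by
  rw [Subgroup.relIndex, Subgroup.index_eq_two_iff]
  refine ⟨⟨D.t, D.htS⟩, fun b => ?_⟩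
  simp only [Subgroup.mem_subgroupOf, Subgroup.coe_mul, Subgroup.mem_inf]
  obtain ⟨y, hy, hb | hb⟩ := D.decomp (D.S_le b.2)
  · right
    refine ⟨⟨b.2, hb ▸ hy⟩, fun h => D.t_notMem ?_⟩
    have h' := h.2
    rw [hb] at h'
    have := D.T.mul_mem (D.T.inv_mem hy) h'
    rwa [inv_mul_cancel_left] at this
  · left
    refine ⟨⟨mul_mem b.2 D.htS, ?_⟩, fun h => D.t_notMem ?_⟩
    · rw [hb, mul_assoc, D.comm_t hy, ← mul_assoc, D.t_sq, one_mul]; exact hy
    · have h' := h.2
      rw [hb] at h'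
      have := D.T.mul_mem h' (D.T.inv_mem hy)
      rwa [mul_inv_cancel_right] at this

theorem exists_fused : ∃ (g : G) (u : G), u ∈ D.T ∧ u * u = 1 ∧ u ≠ 1 ∧ g * D.t * g⁻¹ = u := by
  by_contra hc
  push Not at hc
  obtain ⟨N, hN, hN2, -⟩ := InvChar68.thompson_transfer D.S ((D.S : Subgroup G) ⊓ D.T)
    D.relIndex_inter D.ht D.htS fun g _ hgM =>
      hc g _ hgM.2 (conj_sq g _ D.t_sq) (conj_ne_one g _ D.t_ne) rfl
  exact D.h2 N hN hN2

theorem commutator_le :
    ⁅Subgroup.centralizer ({D.t} : Set G), Subgroup.centralizer ({D.t} : Set G)⁆ ≤ D.T := by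
  rw [Subgroup.commutator_le]
  intro a ha b hb
  have h : (⟨a, ha⟩ * ⟨b, hb⟩ * ⟨a, ha⟩⁻¹ * ⟨b, hb⟩⁻¹ : Subgroup.centralizer ({D.t} : Set G)) ∈
      D.T.subgroupOf (Subgroup.centralizer ({D.t} : Set G)) := by
    simp only [Subgroup.mul_mem_iff_of_index_two D.index_T, inv_mem_iff]
    tauto
  exact h

/-- The degree is 4 or 5. -/
theorem degree (m : ℕ) (e : D.T ≃* alternatingGroup (Fin m)) : m = 4 ∨ m = 5 := by
  obtain ⟨g, u, huT, hu2, hu1, hu⟩ := D.exists_fused
  set u' : alternatingGroup (Fin m) := e ⟨u, huT⟩ with hu'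
  have hu'2 : u' * u' = 1 := by
    rw [hu', ← map_mul, ← map_one e]
    exact congrArg e (Subtype.ext hu2)
  by_contra hm
  rcases Nat.lt_or_ge m 4 with hm3 | hm4
  · have h : u' = 1 := alt_no_invol_three m (by omega) u' hu'2
    rw [hu', ← map_one e] at h
    exact hu1 (congrArg Subtype.val (e.injective h))
  have hm6 : 6 ≤ m := by omega
  have h := mem_commutator_centralizer hm6 u' hu'2
  let f : alternatingGroup (Fin m) →* G :=
    (MulAut.conj g⁻¹).toMonoidHom.comp (D.T.subtype.comp e.symm.toMonoidHom)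
  have hfu : f u' = D.t := by
    show (MulAut.conj g⁻¹) (((e.symm u') : D.T) : G) = D.t
    rw [hu', MulEquiv.symm_apply_apply, MulAut.conj_apply]
    show g⁻¹ * u * g⁻¹⁻¹ = D.t
    rw [← hu]; group
  have hle : (Subgroup.centralizer ({u'} : Set (alternatingGroup (Fin m)))).map f ≤
      Subgroup.centralizer ({D.t} : Set G) := by
    rintro _ ⟨x, hx, rfl⟩
    rw [D.mem_C, ← hfu, ← map_mul, ← map_mul, Subgroup.mem_centralizer_singleton_iff.mp hx]
  have h' := Subgroup.mem_map_of_mem f h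
  rw [Subgroup.map_commutator, hfu] at h'
  exact D.t_notMem (D.commutator_le (Subgroup.commutator_mono hle hle h'))

end Base

end Cfsg.Agent.Blocks88.TwoByAlt
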