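import Cfsg.Agent.Blocks88.TwoByAlt.Count
import Mathlib.GroupTheory.SpecificGroups.ZGroup

/-!
# A group with involution centralizer `Z₂ × A₄` and non-normal Sylow subgroup has order 1512
-/

set_option autoImplicit false
set_option linter.unusedSectionVars false

namespace Cfsg.Agent.Blocks88.TwoByAlt.Four

variable {G : Type*} [Group G] [Finite G] (D : Four G)
include D

theorem invSet_ncard {s : G} (hs : s * s = 1) (hsM : s ∉ D.M) :
    (D.invSet s).ncard ≤ 7 ∧ ((D.invSet s).ncard = 7 →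
      ∃ p ∈ D.M, orderOf p = 7 ∧ s * p * s = p⁻¹ ∧
        D.invSet s = (Subgroup.zpowers p : Set G)) := by
  rcases D.invSet_bound hs hsM with h | ⟨p, hpM, hp, hsub⟩
  · exact ⟨by omega, fun h7 => by omega⟩
  have h7 : ((Subgroup.zpowers p : Subgroup G) : Set G).ncard = 7 := by
    rw [← Nat.card_coe_set_eq]
    exact (Nat.card_zpowers p).trans hp
  refine ⟨by rw [← h7]; exact Set.ncard_le_ncard hsub (Set.toFinite _), fun h => ?_⟩
  have heq : D.invSet s = (Subgroup.zpowers p : Set G) :=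
    Set.eq_of_subset_of_ncard_le hsub (by rw [h7, h]) (Set.toFinite _)
  have hpI : p ∈ D.invSet s := heq ▸ Subgroup.mem_zpowers p
  exact ⟨p, hpM, hp, hpI.2, heq⟩

theorem hns : ¬ (D.M = ⊤) := by
  intro h
  set N : Subgroup G := (D.S : Subgroup G) with hN
  have : N.Normal := Subgroup.normalizer_eq_top_iff.mp h
  have hG : Nat.card G = 168 := by rw [← D.card_M, h, Subgroup.card_top]
  have hq : Nat.card (G ⧸ N) = 21 := by
    have hh := N.index_mul_card
    rw [hG, hN, D.toSetup.card_S] at hh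
    show N.index = 21
    rw [hN]; omega
  have : IsZGroup (G ⧸ N) := IsZGroup.of_squarefree (by
    rw [hq, show (21 : ℕ) = 3 * 7 by norm_num, Nat.squarefree_mul (by norm_num)]
    exact ⟨Nat.prime_three.prime.squarefree, (by norm_num : Nat.Prime 7).prime.squarefree⟩)
  have : Group.IsSolvable N :=
    Group.isSolvable_of_comm fun a b => Subtype.ext (D.toSetup.S_comm a.2 b.2)
  have : Group.IsSolvable (G ⧸ N) := inferInstance
  exact D.hnsol (Group.isSolvable_of_ker_le_range N.subtype (QuotientGroup.mk' N)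
    (by rw [QuotientGroup.ker_mk', Subgroup.range_subtype]))

theorem one_lt_index : 1 < D.M.index := by
  have h0 : D.M.index ≠ 0 := Subgroup.index_ne_zero_of_finite
  have h1 : D.M.index ≠ 1 := fun h => D.hns (Subgroup.index_eq_one.mp h)
  omega

theorem exists_inverted {s : G} (hs : s * s = 1) (hs1 : s ≠ 1) (hsM : s ∉ D.M) :
    ∃ p ∈ D.M, orderOf p = 7 ∧ s * p * s = p⁻¹ ∧
      D.invSet s = (Subgroup.zpowers p : Set G) := by
  classical
  suffices h : (D.invSet s).ncard = 7 from (D.invSet_ncard hs hsM).2 h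
  have := Fintype.ofFinite {v : Inv G // v.1 ∉ D.M}
  have := Fintype.ofFinite (G ⧸ D.M)
  let mk : {v : Inv G // v.1 ∉ D.M} → G ⧸ D.M := fun v => QuotientGroup.mk v.1.1
  have hfib : ∀ v : {v : Inv G // v.1 ∉ D.M},
      (Finset.univ.filter fun w => mk w = mk v).card = (D.invSet v.1.1).ncard := by
    intro v
    have hvi : (v.1.1)⁻¹ = v.1.1 := inv_eq_of_mul_eq_one_left v.1.2.1
    rw [← Nat.card_coe_set_eq, ← Nat.card_eq_finsetCard]
    refine Nat.card_congr
      { toFun := fun w => ⟨v.1.1 * w.1.1.1, ?_, ?_⟩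
        invFun := fun y => ⟨⟨⟨v.1.1 * y.1, ?_, ?_⟩, ?_⟩, ?_⟩
        left_inv := fun w => Subtype.ext (Subtype.ext (Subtype.ext (by
          show v.1.1 * (v.1.1 * w.1.1.1) = w.1.1.1
          rw [← mul_assoc, v.1.2.1, one_mul])))
        right_inv := fun y => Subtype.ext (by
          show v.1.1 * (v.1.1 * y.1) = y.1
          rw [← mul_assoc, v.1.2.1, one_mul]) }
    · have h := (Finset.mem_filter.mp w.2).2.symm
      have h' := QuotientGroup.eq.mp h
      rwa [hvi] at h'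
    · calc v.1.1 * (v.1.1 * w.1.1.1) * v.1.1 = (v.1.1 * v.1.1) * w.1.1.1 * v.1.1 := by group
        _ = (w.1.1.1)⁻¹ * v.1.1⁻¹ := by
          rw [v.1.2.1, one_mul, inv_eq_of_mul_eq_one_left w.1.1.2.1, hvi]
        _ = _ := (mul_inv_rev _ _).symm
    · rw [show v.1.1 * y.1 * (v.1.1 * y.1) = (v.1.1 * y.1 * v.1.1) * y.1 by group, y.2.2,
        inv_mul_cancel]
    · intro e
      apply v.2
      rw [eq_inv_of_mul_eq_one_left e]
      exact inv_mem y.2.1
    · intro e
      apply v.2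
      show v.1.1 ∈ D.M
      have := D.M.mul_mem e (inv_mem y.2.1)
      rwa [mul_inv_cancel_right] at this
    · refine Finset.mem_filter.mpr ⟨Finset.mem_univ _, ?_⟩
      refine (QuotientGroup.eq.mpr ?_).symm
      rw [inv_mul_cancel_left]
      exact y.2.1
  set T' := (Finset.univ : Finset (G ⧸ D.M)).erase (QuotientGroup.mk 1) with hT'
  have hcardT : T'.card = D.M.index - 1 := by
    rw [hT', Finset.card_erase_of_mem (Finset.mem_univ _), Finset.card_univ,
      ← Nat.card_eq_fintype_card]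
    rfl
  have hsum : ∑ q ∈ T', (Finset.univ.filter fun w => mk w = q).card = 7 * (D.M.index - 1) := by
    rw [← Finset.card_eq_sum_card_fiberwise, Finset.card_univ, ← Nat.card_eq_fintype_card,
      D.card_out]
    intro v _
    refine Finset.mem_coe.mpr (Finset.mem_erase.mpr ⟨fun e => v.2 ?_, Finset.mem_univ _⟩)
    have := QuotientGroup.eq.mp e.symm
    rwa [inv_one, one_mul] at this
  have hle : ∀ q ∈ T', (Finset.univ.filter fun w => mk w = q).card ≤ 7 := by
    intro q _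
    by_cases hne : (Finset.univ.filter fun w => mk w = q).Nonempty
    · obtain ⟨v, hv⟩ := hne
      rw [← (Finset.mem_filter.mp hv).2, hfib]
      exact (D.invSet_ncard v.1.2.1 v.2).1
    · rw [Finset.not_nonempty_iff_eq_empty.mp hne]; simp
  have hall := (Finset.sum_eq_sum_iff_of_le hle).mp (by
    rw [hsum, Finset.sum_const, smul_eq_mul, hcardT, mul_comm])
  set v : {v : Inv G // v.1 ∉ D.M} := ⟨⟨s, hs, hs1⟩, hsM⟩
  have hmem : mk v ∈ T' := by
    refine Finset.mem_erase.mpr ⟨fun e => hsM ?_, Finset.mem_univ _⟩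
    have := QuotientGroup.eq.mp e.symm
    rwa [inv_one, one_mul] at this
  exact (hfib v).symm.trans (hall _ hmem)

/-- The involutions inverting `p`. -/
abbrev Inverters (p : G) : Type _ := {s : G // s * s = 1 ∧ s ≠ 1 ∧ s * p * s = p⁻¹}

theorem inverter_notMem {p s : G} (hpM : p ∈ D.M) (hp : orderOf p = 7) (hs : s * s = 1)
    (h : s * p * s = p⁻¹) : s ∉ D.M := by
  intro hsM
  have hsS := D.invol_mem_S hsM hs
  have h1 : p * s * p⁻¹ ∈ (D.S : Subgroup G) := (Subgroup.mem_normalizer_iff.mp hpM _).mp hsS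
  have h2 : p * s * p⁻¹ * s ∈ (D.S : Subgroup G) := mul_mem h1 hsS
  have e : p * s * p⁻¹ * s = p * p := by
    rw [← h]
    calc p * s * (s * p * s) * s = p * (s * s) * p * (s * s) := by group
      _ = _ := by rw [hs]; group
  rw [e] at h2
  have h3 : (p * p) * (p * p) = 1 := D.toSetup.S_sq h2
  have h4 : orderOf p ∣ 4 := orderOf_dvd_of_pow_eq_one (by
    rw [show (4 : ℕ) = 2 + 2 by rfl, pow_add, pow_two]; exact h3)
  rw [hp] at h4
  norm_num at h4

theorem exists_p : ∃ p ∈ D.M, orderOf p = 7 := by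
  have : Fact (Nat.Prime 7) := ⟨by norm_num⟩
  obtain ⟨p, hp⟩ := exists_prime_orderOf_dvd_card' 7 (show 7 ∣ Nat.card D.M by rw [D.card_M]; norm_num)
  exact ⟨p, p.2, by rw [Subgroup.orderOf_coe, hp]⟩

theorem card_sylow_seven : Nat.card (Sylow 7 D.M) = 8 := by
  have : Fact (Nat.Prime 7) := ⟨by norm_num⟩
  obtain ⟨R⟩ := (inferInstance : Nonempty (Sylow 7 D.M))
  have hR : Nat.card (R : Subgroup D.M) = 7 := by
    rw [Sylow.card_eq_multiplicity, D.card_M,
      show (168 : ℕ) = 7 ^ 1 * 24 by norm_num,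
      Nat.factorization_mul (by norm_num) (by norm_num), Finsupp.add_apply,
      Nat.Prime.factorization_pow (by norm_num),
      Nat.factorization_eq_zero_of_not_dvd (by norm_num : ¬ 7 ∣ 24)]
    simp
  have h1 := card_sylow_modEq_one 7 D.M
  have h2 : Nat.card (Sylow 7 D.M) ∣ 24 := by
    refine (R.card_dvd_index).trans (dvd_of_eq ?_)
    have := Subgroup.index_mul_card (R : Subgroup D.M)
    rw [hR, D.card_M] at this
    omega
  have h3 : Nat.card (Sylow 7 D.M) ≠ 1 := by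
    intro h
    have : Subsingleton (Sylow 7 D.M) := Finite.card_le_one_iff_subsingleton.mp h.le
    have : (R : Subgroup D.M).Normal := R.normal_of_subsingleton
    obtain ⟨r, hr⟩ := exists_prime_orderOf_dvd_card' 7 (show 7 ∣ Nat.card (R : Subgroup D.M) by rw [hR])
    have hr' : orderOf ((r : D.M) : G) = 7 := by rw [Subgroup.orderOf_coe, Subgroup.orderOf_coe, hr]
    have htM : D.t ∈ D.M := Subgroup.le_normalizer D.htS
    refine D.no_comm_invol hr' D.toSetup.t_sq D.toSetup.t_ne ?_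
    have h4 : (⟨D.t, htM⟩ : D.M) * r * (⟨D.t, htM⟩ : D.M)⁻¹ * (r : D.M)⁻¹ ∈ (R : Subgroup D.M) :=
      mul_mem (this.conj_mem _ r.2 _) (inv_mem r.2)
    have h5 : D.t * (r : D.M) * D.t⁻¹ * ((r : D.M) : G)⁻¹ ∈ (D.S : Subgroup G) := by
      rw [show D.t * ((r : D.M) : G) * D.t⁻¹ * ((r : D.M) : G)⁻¹ =
        D.t * (((r : D.M) : G) * D.t⁻¹ * ((r : D.M) : G)⁻¹) by group]
      exact mul_mem D.htS ((Subgroup.mem_normalizer_iff.mp (r : D.M).2 _).mp (inv_mem D.htS))
    have h6 : orderOf (D.t * (r : D.M) * D.t⁻¹ * ((r : D.M) : G)⁻¹) ∣ 7 := by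
      have := Subgroup.orderOf_dvd_natCard (R : Subgroup D.M) h4
      rw [hR] at this
      rwa [← Subgroup.orderOf_coe] at this
    have h7 : orderOf (D.t * (r : D.M) * D.t⁻¹ * ((r : D.M) : G)⁻¹) ∣ 2 :=
      orderOf_dvd_of_pow_eq_one (by rw [pow_two]; exact D.toSetup.S_sq h5)
    have h8 : orderOf (D.t * (r : D.M) * D.t⁻¹ * ((r : D.M) : G)⁻¹) = 1 :=
      Nat.eq_one_of_dvd_coprimes (by norm_num : Nat.Coprime 7 2) h6 h7
    rw [orderOf_eq_one_iff, mul_inv_eq_one, mul_inv_eq_iff_eq_mul] at h8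
    exact h8.symm
  have hle : Nat.card (Sylow 7 D.M) ≤ 24 := Nat.le_of_dvd (by norm_num) h2
  have h4 : Nat.card (Sylow 7 D.M) % 7 = 1 := h1
  interval_cases hc : Nat.card (Sylow 7 D.M) <;> omega

theorem sylow_seven_eq {p : G} (hpM : p ∈ D.M) (hp : orderOf p = 7) :
    ∃ R : Sylow 7 D.M, ∀ q : G, q ∈ Subgroup.zpowers p ↔ ∃ h : q ∈ D.M, (⟨q, h⟩ : D.M) ∈ (R : Subgroup D.M) := by
  have : Fact (Nat.Prime 7) := ⟨by norm_num⟩
  set z := Subgroup.zpowers (⟨p, hpM⟩ : D.M) with hz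
  have hzc : Nat.card z = 7 := by rw [hz, Nat.card_zpowers, Subgroup.orderOf_mk, hp]
  obtain ⟨R, hR⟩ := (IsPGroup.of_card (p := 7) (n := 1) (by rw [hzc, pow_one])).exists_le_sylow
  have hRc : Nat.card (R : Subgroup D.M) = 7 := by
    obtain ⟨j, hj⟩ := R.isPGroup'.exists_card_eq
    have h168 : Nat.card (R : Subgroup D.M) ∣ 168 := D.card_M ▸ Subgroup.card_subgroup_dvd_card _
    have h7 := Subgroup.card_dvd_of_le hR
    rw [hzc, hj] at h7
    rw [hj] at h168 ⊢
    rcases Nat.lt_or_ge j 2 with hj2 | hj2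
    · interval_cases j
      · norm_num at h7
      · norm_num
    · exact absurd ((pow_dvd_pow 7 hj2).trans h168) (by norm_num)
  have heq : z = (R : Subgroup D.M) := Subgroup.eq_of_le_of_card_ge hR (by rw [hzc, hRc])
  refine ⟨R, fun q => ⟨fun hq => ?_, ?_⟩⟩
  · obtain ⟨k, rfl⟩ := Subgroup.mem_zpowers_iff.mp hq
    refine ⟨zpow_mem hpM k, heq ▸ Subgroup.mem_zpowers_iff.mpr ⟨k, rfl⟩⟩
  · rintro ⟨h, hq⟩
    obtain ⟨k, hk⟩ := Subgroup.mem_zpowers_iff.mp (heq ▸ hq)
    exact Subgroup.mem_zpowers_iff.mpr ⟨k, congrArg Subtype.val hk⟩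

theorem count_inverters {p : G} (hpM : p ∈ D.M) (hp : orderOf p = 7) :
    7 * (D.M.index - 1) = 8 * Nat.card (Inverters p) := by
  classical
  have : Fact (Nat.Prime 7) := ⟨by norm_num⟩
  have := Fintype.ofFinite (Sylow 7 D.M)
  have := Fintype.ofFinite {v : Inv G // v.1 ∉ D.M}
  obtain ⟨R₀, hR₀⟩ := D.sylow_seven_eq hpM hp
  -- the subgroup inverted by an outside involution
  have hex : ∀ v : {v : Inv G // v.1 ∉ D.M}, ∃ R : Sylow 7 D.M,
      ∀ y : G, y ∈ D.invSet v.1.1 ↔ ∃ h : y ∈ D.M, (⟨y, h⟩ : D.M) ∈ (R : Subgroup D.M) := by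
    intro v
    obtain ⟨q, hqM, hq, -, heq⟩ := D.exists_inverted v.1.2.1 v.1.2.2 v.2
    obtain ⟨R, hR⟩ := D.sylow_seven_eq hqM hq
    exact ⟨R, fun y => by rw [heq]; exact hR y⟩
  choose P hP using hex
  have huniq : ∀ (v : {v : Inv G // v.1 ∉ D.M}) (R : Sylow 7 D.M),
      (∀ y : D.M, y ∈ (R : Subgroup D.M) → v.1.1 * y * v.1.1 = ((y : G))⁻¹) → P v = R := by
    intro v R hR
    refine (Sylow.ext (Subgroup.eq_of_le_of_card_ge (fun y hy => ?_) ?_)).symm
    · obtain ⟨h, h'⟩ := (hP v y).mp ⟨y.2, hR y hy⟩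
      exact h'
    · rw [Sylow.card_eq_multiplicity, Sylow.card_eq_multiplicity]
  have hinv_gen : ∀ {s r : G}, s * s = 1 → s * r * s = r⁻¹ → ∀ q ∈ Subgroup.zpowers r,
      s * q * s = q⁻¹ := by
    intro s r hs hr q hq
    obtain ⟨k, rfl⟩ := Subgroup.mem_zpowers_iff.mp hq
    have hsi : s⁻¹ = s := inv_eq_of_mul_eq_one_left hs
    nth_rw 2 [← hsi]
    rw [← conj_zpow, hsi, hr, inv_zpow]
  -- each fibre has the same size
  have hfib : ∀ R : Sylow 7 D.M, (Finset.univ.filter fun v => P v = R).card = Nat.card (Inverters p) := by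
    intro R
    obtain ⟨m, hm⟩ := MulAction.exists_smul_eq D.M R₀ R
    rw [← Nat.card_eq_finsetCard]
    symm
    have hpR : (⟨p, hpM⟩ : D.M) ∈ (R₀ : Subgroup D.M) := ((hR₀ p).mp (Subgroup.mem_zpowers p)).2
    have hmR : ∀ y : D.M, y ∈ (R : Subgroup D.M) → ∃ q ∈ Subgroup.zpowers p,
        (y : G) = m * q * (m : G)⁻¹ := by
      intro y hy
      rw [← hm, Sylow.coe_subgroup_smul, Subgroup.mem_pointwise_smul_iff_inv_smul_mem] at hy
      refine ⟨(m : G)⁻¹ * y * m, (hR₀ _).mpr ⟨mul_mem (mul_mem (inv_mem m.2) y.2) m.2, ?_⟩, by group⟩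
      convert hy using 1
      ext
      simp [MulAut.smul_def]
    have hpR' : ((⟨p, hpM⟩ : D.M)) ∈ (R₀ : Subgroup D.M) := hpR
    have hmp : m * ⟨p, hpM⟩ * m⁻¹ ∈ (R : Subgroup D.M) := by
      rw [← hm, Sylow.coe_subgroup_smul]
      exact Subgroup.smul_mem_pointwise_smul _ (MulAut.conj m) _ hpR'
    refine Nat.card_congr
      { toFun := fun s => ⟨⟨⟨(m : G) * s.1 * (m : G)⁻¹, conj_sq _ _ s.2.1, conj_ne_one _ _ s.2.2.1⟩,
          fun hM => D.inverter_notMem hpM hp s.2.1 s.2.2.2 ?_⟩, Finset.mem_filter.mpr ⟨Finset.mem_univ _, ?_⟩⟩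
        invFun := fun v => ⟨(m : G)⁻¹ * v.1.1.1 * m, ?_, ?_, ?_⟩
        left_inv := fun s => Subtype.ext (by
          show (m : G)⁻¹ * ((m : G) * s.1 * (m : G)⁻¹) * m = s.1
          group)
        right_inv := fun v => Subtype.ext (Subtype.ext (Subtype.ext (by
          show (m : G) * ((m : G)⁻¹ * v.1.1.1 * m) * (m : G)⁻¹ = v.1.1.1
          group))) }
    · have := mul_mem (mul_mem (inv_mem m.2) hM) m.2
      rwa [show (m : G)⁻¹ * ((m : G) * s.1 * (m : G)⁻¹) * m = s.1 by group] at this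
    · refine huniq _ R fun y hy => ?_
      obtain ⟨q, hq, e⟩ := hmR y hy
      show (m : G) * s.1 * (m : G)⁻¹ * y * ((m : G) * s.1 * (m : G)⁻¹) = _
      rw [e, show (m : G) * s.1 * (m : G)⁻¹ * ((m : G) * q * (m : G)⁻¹) * ((m : G) * s.1 * (m : G)⁻¹) =
        (m : G) * (s.1 * q * s.1) * (m : G)⁻¹ by group, hinv_gen s.2.1 s.2.2.2 q hq]
      group
    · have := conj_sq (m : G)⁻¹ _ v.1.1.2.1
      rwa [inv_inv] at this
    · have := conj_ne_one (m : G)⁻¹ _ v.1.1.2.2
      rwa [inv_inv] at this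
    · obtain ⟨-, h⟩ := (hP v.1 ((m : G) * p * (m : G)⁻¹)).mpr
        ⟨mul_mem (mul_mem m.2 hpM) (inv_mem m.2), by rw [(Finset.mem_filter.mp v.2).2]; exact hmp⟩
      rw [show (m : G)⁻¹ * v.1.1.1 * m * p * ((m : G)⁻¹ * v.1.1.1 * m) =
        (m : G)⁻¹ * (v.1.1.1 * ((m : G) * p * (m : G)⁻¹) * v.1.1.1) * m by group, h]
      group
  rw [← D.card_out, Nat.card_eq_fintype_card, ← Finset.card_univ,
    Finset.card_eq_sum_card_fiberwise (f := P) (t := Finset.univ) (fun _ _ => Finset.mem_coe.mpr (Finset.mem_univ _)),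
    Finset.sum_congr rfl fun R _ => hfib R, Finset.sum_const, Finset.card_univ,
    ← Nat.card_eq_fintype_card, D.card_sylow_seven, smul_eq_mul]

theorem card_G : Nat.card G = 1512 ∧ D.M.index = 9 := by
  classical
  obtain ⟨p, hpM, hp⟩ := D.exists_p
  have hcount := D.count_inverters hpM hp
  set n := D.M.index with hn
  have hn1 := D.one_lt_index
  obtain ⟨s₀, hs₀2, hs₀1, hs₀⟩ : ∃ s : G, s * s = 1 ∧ s ≠ 1 ∧ s * p * s = p⁻¹ := by
    have hpos : 0 < Nat.card (Inverters p) := by omega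
    obtain ⟨⟨s, hs⟩⟩ := (Nat.card_pos_iff.mp hpos).1
    exact ⟨s, hs⟩
  have hsi : s₀⁻¹ = s₀ := inv_eq_of_mul_eq_one_left hs₀2
  set Cp := Subgroup.centralizer ({p} : Set G) with hCp
  have hmemC : ∀ c, c ∈ Cp ↔ c * p = p * c := fun c => Subgroup.mem_centralizer_singleton_iff
  have hodd : Odd (Nat.card Cp) := by
    rw [← Nat.not_even_iff_odd, even_iff_two_dvd]
    intro hd
    have : Fact (Nat.Prime 2) := ⟨Nat.prime_two⟩
    obtain ⟨v, hv⟩ := exists_prime_orderOf_dvd_card' 2 hd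
    rw [← Subgroup.orderOf_coe] at hv
    obtain ⟨h1, h2⟩ := mul_self_of_orderOf hv
    exact D.no_comm_invol hp h1 h2 ((hmemC v).mp v.2).symm
  -- `s₀` normalizes the centralizer
  have hsC : ∀ c ∈ Cp, s₀ * c * s₀ ∈ Cp := fun c hc => by
    rw [hmemC] at hc ⊢
    have hp' : p = s₀ * p⁻¹ * s₀ := by
      rw [← hs₀, show s₀ * (s₀ * p * s₀) * s₀ = (s₀ * s₀) * p * (s₀ * s₀) by group, hs₀2]; group
    have hc' : c * p⁻¹ = p⁻¹ * c := ((show Commute c p from hc).inv_right).eq
    calc s₀ * c * s₀ * p = s₀ * c * s₀ * (s₀ * p⁻¹ * s₀) := by rw [← hp']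
      _ = s₀ * (c * p⁻¹) * s₀ := by
        rw [show s₀ * c * s₀ * (s₀ * p⁻¹ * s₀) = s₀ * c * (s₀ * s₀) * p⁻¹ * s₀ by group, hs₀2]; group
      _ = (s₀ * p⁻¹ * s₀) * (s₀ * c * s₀) := by
        rw [hc', show (s₀ * p⁻¹ * s₀) * (s₀ * c * s₀) = s₀ * p⁻¹ * (s₀ * s₀) * c * s₀ by group, hs₀2]; group
      _ = _ := by rw [← hp']
  set Cs := (Subgroup.centralizer ({s₀} : Set G)).subgroupOf Cp with hCs
  -- inverted elements
  have ha : Nat.card (Inverters p) = Cs.index := by
    let g : Cp → G := fun x => (x : G) * (s₀ * (x : G)⁻¹ * s₀)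
    have hgC : ∀ x : Cp, g x ∈ Cp := fun x => mul_mem x.2 (hsC _ (inv_mem x.2))
    have hginv : ∀ x : Cp, s₀ * g x * s₀ = (g x)⁻¹ := fun x => by
      simp only [g]
      rw [mul_inv_rev, mul_inv_rev, mul_inv_rev, inv_inv, hsi]
      calc s₀ * ((x : G) * (s₀ * (x : G)⁻¹ * s₀)) * s₀
          = s₀ * x * s₀ * (x : G)⁻¹ * (s₀ * s₀) := by group
        _ = _ := by rw [hs₀2]; group
    have hgeq : ∀ x y : Cp, g x = g y ↔ x⁻¹ * y ∈ Cs := fun x y => by
      rw [Subgroup.mem_subgroupOf, Subgroup.mem_centralizer_singleton_iff]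
      show (x : G) * (s₀ * (x : G)⁻¹ * s₀) = (y : G) * (s₀ * (y : G)⁻¹ * s₀) ↔
        (x : G)⁻¹ * y * s₀ = s₀ * ((x : G)⁻¹ * y)
      constructor
      · intro h
        have h' : (x : G) * s₀ * (x : G)⁻¹ = (y : G) * s₀ * (y : G)⁻¹ := by
          have := congrArg (· * s₀⁻¹) h
          simpa [mul_assoc] using this
        calc (x : G)⁻¹ * y * s₀ = (x : G)⁻¹ * ((y : G) * s₀ * (y : G)⁻¹) * y := by group
          _ = _ := by rw [← h']; group
      · intro h
        calc (x : G) * (s₀ * (x : G)⁻¹ * s₀)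
            = (x : G) * (s₀ * ((x : G)⁻¹ * y)) * (y : G)⁻¹ * s₀ := by group
          _ = _ := by rw [← h]; group
    let f : Cp ⧸ Cs → Inverters p := fun q => ⟨s₀ * g q.out, by
        rw [show s₀ * g q.out * (s₀ * g q.out) = (s₀ * g q.out * s₀) * g q.out by group, hginv,
          inv_mul_cancel], fun e => by
        have hsC' : s₀ ∈ Cp := by
          rw [eq_inv_of_mul_eq_one_left e]; exact inv_mem (hgC _)
        exact hs₀1 (eq_one_of_sq hodd hsC' hs₀2), by
        calc s₀ * g q.out * p * (s₀ * g q.out) = s₀ * (g q.out * p) * s₀ * g q.out := by group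
          _ = (s₀ * p * s₀) * (s₀ * g q.out * s₀) * g q.out := by
            rw [(hmemC _).mp (hgC _), show (s₀ * p * s₀) * (s₀ * g q.out * s₀) * g q.out =
              s₀ * p * (s₀ * s₀) * g q.out * s₀ * g q.out by group, hs₀2]; group
          _ = _ := by rw [hs₀, hginv]; group⟩
    have hf : Function.Bijective f := by
      constructor
      · intro q r h
        have h1 : g q.out = g r.out := mul_left_cancel (congrArg Subtype.val h)
        rw [← QuotientGroup.out_eq' q, ← QuotientGroup.out_eq' r, QuotientGroup.eq]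
        exact (hgeq _ _).mp h1
      · rintro ⟨s, hs2, hs1, hs⟩
        have hyC : s₀ * s ∈ Cp := by
          rw [hmemC]
          have e1 : s * p = p⁻¹ * s := by
            rw [← hs, show s * p * s * s = s * p * (s * s) by group, hs2, mul_one]
          have e2 : s₀ * p⁻¹ = p * s₀ := by
            calc s₀ * p⁻¹ = s₀ * (s₀ * p * s₀) := by rw [hs₀]
              _ = (s₀ * s₀) * p * s₀ := by group
              _ = p * s₀ := by rw [hs₀2, one_mul]
          rw [mul_assoc, e1, ← mul_assoc, e2, mul_assoc]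
        obtain ⟨j, hj⟩ := (hodd.of_dvd_nat (orderOf_dvd_natCard (⟨s₀ * s, hyC⟩ : Cp)))
        rw [Subgroup.orderOf_mk] at hj
        set z : Cp := ⟨(s₀ * s) ^ (j + 1), pow_mem hyC _⟩
        have hz2 : (z : G) * z = s₀ * s := by
          show (s₀ * s) ^ (j + 1) * (s₀ * s) ^ (j + 1) = _
          rw [← pow_add, show j + 1 + (j + 1) = orderOf (s₀ * s) + 1 by omega, pow_succ,
            pow_orderOf_eq_one, one_mul]
        have hgz : g z = s₀ * s := by
          rw [← hz2]
          show (z : G) * (s₀ * (z : G)⁻¹ * s₀) = (z : G) * z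
          congr 1
          have hinv : s₀ * (s₀ * s) * s₀⁻¹ = (s₀ * s)⁻¹ := by
            rw [hsi, mul_inv_rev, hsi, inv_eq_of_mul_eq_one_left hs2, ← mul_assoc, hs₀2, one_mul]
          show s₀ * ((s₀ * s) ^ (j + 1))⁻¹ * s₀ = (s₀ * s) ^ (j + 1)
          nth_rw 3 [← hsi]
          rw [← inv_pow, ← conj_pow, ← hinv]
          congr 1
          rw [hsi, show s₀ * (s₀ * (s₀ * s) * s₀) * s₀ = (s₀ * s₀) * (s₀ * s) * (s₀ * s₀) by group,
            hs₀2, one_mul, mul_one]
        refine ⟨QuotientGroup.mk z, Subtype.ext ?_⟩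
        show s₀ * g (QuotientGroup.mk z : Cp ⧸ Cs).out = s
        have : g z = g (QuotientGroup.mk z : Cp ⧸ Cs).out :=
          (hgeq _ _).mpr (QuotientGroup.eq.mp (QuotientGroup.out_eq' _).symm)
        rw [← this, hgz, ← mul_assoc, hs₀2, one_mul]
    exact (Nat.card_congr (Equiv.ofBijective f hf)).symm
  have hdvd : Cs.index ∣ Nat.card Cp := Subgroup.index_dvd_card _
  have hodd' : Odd Cs.index := hodd.of_dvd_nat hdvd
  -- an element of order 3 of `M` acts nontrivially on the centralizer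
  have h3dvd : 3 * Nat.card Cp ∣ Nat.card G := by
    obtain ⟨R, hR⟩ := D.sylow_seven_eq hpM hp
    have : Fact (Nat.Prime 3) := ⟨Nat.prime_three⟩
    have : Fact (Nat.Prime 7) := ⟨by norm_num⟩
    have hN : 3 ∣ Nat.card (Subgroup.normalizer ((R : Subgroup D.M) : Set D.M)) := by
      have h := Subgroup.index_mul_card (Subgroup.normalizer ((R : Subgroup D.M) : Set D.M))
      rw [show (Subgroup.normalizer ((R : Subgroup D.M) : Set D.M)).index = 8 from
        R.card_eq_index_normalizer.symm.trans D.card_sylow_seven, D.card_M] at h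
      exact ⟨7, by omega⟩
    obtain ⟨u, hu⟩ := exists_prime_orderOf_dvd_card' 3 hN
    have hu3 : orderOf ((u : D.M) : G) = 3 := by rw [Subgroup.orderOf_coe, Subgroup.orderOf_coe, hu]
    set H := Subgroup.normalizer ((Subgroup.zpowers p : Subgroup G) : Set G) with hH
    have huH : ((u : D.M) : G) ∈ H := by
      refine Subgroup.mem_normalizer_iff.mpr fun q => ?_
      simp only [hR]
      constructor
      · rintro ⟨h, hq⟩
        exact ⟨mul_mem (mul_mem u.1.2 h) (inv_mem u.1.2), (Subgroup.mem_normalizer_iff.mp u.2 _).mp hq⟩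
      · rintro ⟨h, hq⟩
        have h' : q ∈ D.M := by
          have := mul_mem (mul_mem (inv_mem u.1.2) h) u.1.2
          rwa [show ((u : D.M) : G)⁻¹ * (((u : D.M) : G) * q * ((u : D.M) : G)⁻¹) * (u : D.M) = q by group]
            at this
        exact ⟨h', (Subgroup.mem_normalizer_iff.mp u.2 _).mpr hq⟩
    have hCH : Cp ≤ H := fun c hc => by
      refine Subgroup.mem_normalizer_iff.mpr fun q => ?_
      have hcq : ∀ q ∈ Subgroup.zpowers p, c * q * c⁻¹ = q := by
        intro q hq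
        obtain ⟨m, rfl⟩ := Subgroup.mem_zpowers_iff.mp hq
        rw [((show Commute c p from (hmemC c).mp hc).zpow_right m).eq, mul_inv_cancel_right]
      refine ⟨fun hq => (hcq q hq).symm ▸ hq, fun hq => ?_⟩
      have h1 := hcq _ hq
      have : c * q * c⁻¹ = q := mul_left_cancel (mul_right_cancel h1)
      rwa [this] at hq
    have hnorm : (Cp.subgroupOf H).Normal := by
      refine ⟨fun c hc h => ?_⟩
      rw [Subgroup.mem_subgroupOf] at hc ⊢
      show (h : G) * c * (h : G)⁻¹ ∈ Cp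
      have hh : (h : G)⁻¹ * p * h ∈ Subgroup.zpowers p := by
        rw [Subgroup.mem_normalizer_iff.mp h.2]
        rw [show (h : G) * ((h : G)⁻¹ * p * h) * (h : G)⁻¹ = p by group]
        exact Subgroup.mem_zpowers p
      obtain ⟨m, hm⟩ := Subgroup.mem_zpowers_iff.mp hh
      have e : (c : G) * ((h : G)⁻¹ * p * h) = (h : G)⁻¹ * p * h * c := by
        rw [← hm]; exact ((show Commute (c : G) p from (hmemC _).mp hc).zpow_right m).eq
      rw [hmemC]
      calc (h : G) * c * (h : G)⁻¹ * p = (h : G) * ((c : G) * ((h : G)⁻¹ * p * h)) * (h : G)⁻¹ := by group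
        _ = _ := by rw [e]; group
    have hq3 : 3 ∣ (Cp.subgroupOf H).index := by
      have hne : QuotientGroup.mk' (Cp.subgroupOf H) ⟨_, huH⟩ ≠ 1 := by
        rw [ne_eq, QuotientGroup.mk'_apply, QuotientGroup.eq_one_iff, Subgroup.mem_subgroupOf]
        exact fun h => D.no_comm_three hpM hp u.1.2 hu3 ((hmemC _).mp h)
      have := orderOf_dvd_natCard (QuotientGroup.mk' (Cp.subgroupOf H) ⟨_, huH⟩)
      rw [orderOf_eq_prime (p := 3) (by
        rw [← map_pow, ← map_one (QuotientGroup.mk' (Cp.subgroupOf H))]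
        congr 1
        exact Subtype.ext (hu3 ▸ pow_orderOf_eq_one _)) hne] at this
      exact this
    refine dvd_trans ?_ H.card_subgroup_dvd_card
    rw [← Subgroup.index_mul_card (Cp.subgroupOf H),
      Nat.card_congr (Subgroup.subgroupOfEquivOfLe hCH).toEquiv]
    exact Nat.mul_dvd_mul_right hq3 _
  have hG : Nat.card G = 168 * n := by
    rw [← D.card_M, hn, Subgroup.card_mul_index]
  rw [ha] at hcount
  obtain ⟨k, hk⟩ : 7 ∣ Cs.index :=
    (Nat.Coprime.dvd_of_dvd_mul_left (by norm_num : Nat.Coprime 7 8) ⟨n - 1, hcount.symm⟩)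
  have hn' : n = 8 * k + 1 := by omega
  have hk8 : k ∣ 8 := by
    have h1 : 21 * k ∣ 21 * (8 * (8 * k + 1)) := by
      rw [show 21 * k = 3 * (7 * k) by ring, ← hk,
        show 21 * (8 * (8 * k + 1)) = 168 * (8 * k + 1) by ring, ← hn', ← hG]
      exact (Nat.mul_dvd_mul_left 3 hdvd).trans h3dvd
    refine Nat.Coprime.dvd_of_dvd_mul_right ?_ (Nat.dvd_of_mul_dvd_mul_left (by norm_num) h1)
    rw [mul_comm, Nat.coprime_mul_left_add_right]
    exact Nat.coprime_one_right k
  have hk1 : k = 1 := by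
    have hle : k ≤ 8 := Nat.le_of_dvd (by norm_num) hk8
    have hko : k % 2 = 1 := by
      have := Nat.odd_iff.mp hodd'
      omega
    interval_cases k <;> omega
  constructor <;> omega

end Cfsg.Agent.Blocks88.TwoByAlt.Four
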