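import Cfsg.Agent.InvChar68.IndexTwoTransfer
import Cfsg.Prelude.Def_TwoFusion
import Mathlib.GroupTheory.Sylow
import Mathlib.GroupTheory.Index
import Mathlib.Tactic

/-!
# An involution with centralizer `⟨t⟩ × T`, `T` alternating of degree 4 or 5
-/

set_option autoImplicit false

namespace Cfsg.Agent.Blocks88.TwoByAlt

/-- A central involution with centralizer the product of `⟨t⟩` and a group like `A₄` or `A₅`. -/
structure Setup (G : Type*) [Group G] where
  t : G
  T : Subgroup G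
  S : Sylow 2 G
  ht : orderOf t = 2
  htS : t ∈ (S : Subgroup G)
  hcS : ∀ x ∈ (S : Subgroup G), x * t = t * x
  hd : Cfsg.IsInternalDirectProduct (Subgroup.zpowers t) T (Subgroup.centralizer ({t} : Set G))
  h2 : ∀ N : Subgroup G, N.Normal → N.index ≠ 2
  hexp : ∀ a ∈ T, a * a = 1 → a ≠ 1 → ∀ y ∈ T, y * a = a * y → y * y = 1
  hconjT : ∀ a ∈ T, a * a = 1 → a ≠ 1 → ∀ b ∈ T, b * b = 1 → b ≠ 1 → ∃ y ∈ T, y * a * y⁻¹ = b
  hcard : Nat.card T = 12 ∨ Nat.card T = 60

/-- An involutory fixed-point-free action on a finite group of odd order is inversion. -/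
theorem inverts_of_fixed_trivial {G : Type*} [Group G] [Finite G] {K : Subgroup G}
    (hK : Odd (Nat.card K)) {a : G} (ha : a * a = 1) (hnorm : ∀ x ∈ K, a * x * a ∈ K)
    (hfix : ∀ x ∈ K, a * x = x * a → x = 1) : ∀ x ∈ K, a * x * a = x⁻¹ := by
  have hai : a⁻¹ = a := inv_eq_of_mul_eq_one_left ha
  let f : K → K := fun x => ⟨(x : G)⁻¹ * (a * x * a), K.mul_mem (K.inv_mem x.2) (hnorm _ x.2)⟩
  have hinj : Function.Injective f := by
    intro x y hxy
    have h : (x : G)⁻¹ * (a * x * a) = (y : G)⁻¹ * (a * y * a) := congrArg Subtype.val hxy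
    have h1 : (y : G) * (x : G)⁻¹ = 1 := by
      refine hfix _ (K.mul_mem y.2 (K.inv_mem x.2)) ?_
      have h' : (y : G) * (x : G)⁻¹ = a * y * a * (a * x * a)⁻¹ := by
        rw [← mul_right_inj (y : G)⁻¹, ← mul_left_inj (a * x * a)]
        calc (y : G)⁻¹ * ((y : G) * (x : G)⁻¹) * (a * x * a) = (x : G)⁻¹ * (a * x * a) := by group
          _ = (y : G)⁻¹ * (a * y * a) := h
          _ = _ := by group
      calc a * ((y : G) * (x : G)⁻¹) = a * (a * y * a * (a * x * a)⁻¹) := by rw [← h']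
        _ = (a * a) * y * (a * a⁻¹) * (x : G)⁻¹ * a⁻¹ := by group
        _ = _ := by rw [ha, hai, ha]; group
    exact Subtype.ext (mul_inv_eq_one.mp h1).symm
  intro x hx
  obtain ⟨⟨y, hy⟩, e⟩ := (Finite.injective_iff_surjective.mp hinj) ⟨x, hx⟩
  have e' : y⁻¹ * (a * y * a) = x := congrArg Subtype.val e
  rw [← e']
  calc a * (y⁻¹ * (a * y * a)) * a = a⁻¹ * y⁻¹ * a * y * (a * a) := by rw [hai]; group
    _ = a⁻¹ * y⁻¹ * a * y := by rw [ha, mul_one]
    _ = a⁻¹ * y⁻¹ * a⁻¹ * y := by rw [hai]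
    _ = _ := by group

theorem eq_one_of_sq {G : Type*} [Group G] [Finite G] {K : Subgroup G} (hK : Odd (Nat.card K))
    {x : G} (hx : x ∈ K) (h : x * x = 1) : x = 1 := by
  have h1 : orderOf x ∣ 2 := orderOf_dvd_of_pow_eq_one (by rw [pow_two, h])
  have h2 : orderOf x ∣ Nat.card K := Subgroup.orderOf_dvd_natCard K hx
  rcases (Nat.dvd_prime Nat.prime_two).mp h1 with h3 | h3
  · exact orderOf_eq_one_iff.mp h3
  · rw [h3] at h2
    exact absurd h2 (fun hd => (Nat.not_even_iff_odd.mpr hK) (even_iff_two_dvd.mpr hd))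

theorem orderOf_eq_two' {G : Type*} [Group G] {x : G} (h : x * x = 1) (h1 : x ≠ 1) :
    orderOf x = 2 :=
  orderOf_eq_prime (by rw [pow_two, h]) h1

theorem mul_self_of_orderOf {G : Type*} [Group G] {x : G} (h : orderOf x = 2) :
    x * x = 1 ∧ x ≠ 1 :=
  ⟨by rw [← pow_two, ← h]; exact pow_orderOf_eq_one x, fun e => by rw [e, orderOf_one] at h; omega⟩

theorem conj_sq {G : Type*} [Group G] (g x : G) (h : x * x = 1) :
    (g * x * g⁻¹) * (g * x * g⁻¹) = 1 := by
  rw [show (g * x * g⁻¹) * (g * x * g⁻¹) = g * (x * x) * g⁻¹ by group, h]; group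

theorem conj_ne_one {G : Type*} [Group G] (g x : G) (h : x ≠ 1) : g * x * g⁻¹ ≠ 1 :=
  fun e => h (by
    calc x = g⁻¹ * (g * x * g⁻¹) * g := by group
      _ = _ := by rw [e]; group)

set_option linter.unusedSectionVars false

namespace Setup

variable {G : Type*} [Group G] [Finite G] (D : Setup G)

theorem t_sq : D.t * D.t = 1 := (mul_self_of_orderOf D.ht).1

theorem t_ne : D.t ≠ 1 := (mul_self_of_orderOf D.ht).2

theorem t_inv : D.t⁻¹ = D.t := inv_eq_of_mul_eq_one_left D.t_sq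

theorem mem_C {x : G} : x ∈ (Subgroup.centralizer ({D.t} : Set G)) ↔ x * D.t = D.t * x := Subgroup.mem_centralizer_singleton_iff

theorem T_le : D.T ≤ (Subgroup.centralizer ({D.t} : Set G)) := D.hd.2.1

theorem S_le : (D.S : Subgroup G) ≤ (Subgroup.centralizer ({D.t} : Set G)) := fun x hx => D.mem_C.mpr (D.hcS x hx)

theorem comm_t {y : G} (hy : y ∈ D.T) : y * D.t = D.t * y := D.mem_C.mp (D.T_le hy)

theorem t_notMem : D.t ∉ D.T := fun h =>
  D.t_ne (by
    have : D.t ∈ Subgroup.zpowers D.t ⊓ D.T := ⟨Subgroup.mem_zpowers _, h⟩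
    rw [D.hd.2.2.2.1] at this
    exact this)

theorem decomp {x : G} (hx : x ∈ (Subgroup.centralizer ({D.t} : Set G))) : ∃ y ∈ D.T, x = y ∨ x = D.t * y := by
  rw [← D.hd.2.2.2.2] at hx
  rw [Subgroup.sup_eq_closure] at hx
  induction hx using Subgroup.closure_induction with
  | mem z hz =>
    rcases hz with hz | hz
    · obtain ⟨k, rfl⟩ := Subgroup.mem_zpowers_iff.mp hz
      refine ⟨1, D.T.one_mem, ?_⟩
      rcases Int.even_or_odd k with ⟨i, rfl⟩ | ⟨i, rfl⟩
      · left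
        rw [zpow_add, ← (Commute.refl D.t).mul_zpow, D.t_sq, one_zpow]
      · right
        rw [zpow_add_one, two_mul, zpow_add, ← (Commute.refl D.t).mul_zpow, D.t_sq, one_zpow,
          one_mul, mul_one]
    · exact ⟨z, hz, Or.inl rfl⟩
  | one => exact ⟨1, D.T.one_mem, Or.inl rfl⟩
  | mul a b _ _ iha ihb =>
    obtain ⟨y, hy, hy'⟩ := iha
    obtain ⟨z, hz, hz'⟩ := ihb
    refine ⟨y * z, D.T.mul_mem hy hz, ?_⟩
    rcases hy' with hy' | hy' <;> rcases hz' with hz' | hz' <;> subst hy' <;> subst hz'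
    · exact Or.inl rfl
    · exact Or.inr (by rw [← mul_assoc, D.comm_t hy, mul_assoc])
    · exact Or.inr (by rw [mul_assoc])
    · refine Or.inl ?_
      calc D.t * y * (D.t * z) = D.t * (y * D.t) * z := by group
        _ = D.t * D.t * y * z := by rw [D.comm_t hy]; group
        _ = _ := by rw [D.t_sq, one_mul]
  | inv a _ iha =>
    obtain ⟨y, hy, hy'⟩ := iha
    refine ⟨y⁻¹, D.T.inv_mem hy, ?_⟩
    rcases hy' with hy' | hy' <;> subst hy'
    · exact Or.inl rfl
    · exact Or.inr (by rw [mul_inv_rev, D.t_inv, D.comm_t (D.T.inv_mem hy)])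

theorem sq_eq {y : G} (hy : y ∈ D.T) : (D.t * y) * (D.t * y) = y * y := by
  calc D.t * y * (D.t * y) = D.t * (y * D.t) * y := by group
    _ = D.t * D.t * (y * y) := by rw [D.comm_t hy]; group
    _ = _ := by rw [D.t_sq, one_mul]

theorem index_T : (D.T.subgroupOf (Subgroup.centralizer ({D.t} : Set G))).index = 2 := by
  rw [Subgroup.index_eq_two_iff]
  refine ⟨⟨D.t, D.mem_C.mpr rfl⟩, fun b => ?_⟩
  simp only [Subgroup.mem_subgroupOf, Subgroup.coe_mul]
  obtain ⟨y, hy, hb | hb⟩ := D.decomp b.2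
  · right
    refine ⟨hb ▸ hy, fun h => D.t_notMem ?_⟩
    rw [hb] at h
    have := D.T.mul_mem (D.T.inv_mem hy) h
    rwa [inv_mul_cancel_left] at this
  · left
    refine ⟨?_, fun h => D.t_notMem ?_⟩
    · rw [hb, mul_assoc, D.comm_t hy, ← mul_assoc, D.t_sq, one_mul]; exact hy
    · rw [hb] at h
      have := D.T.mul_mem h (D.T.inv_mem hy)
      rwa [mul_inv_cancel_right] at this

theorem card_C : Nat.card (Subgroup.centralizer ({D.t} : Set G)) = 2 * Nat.card D.T := by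
  rw [← Subgroup.index_mul_card (D.T.subgroupOf (Subgroup.centralizer ({D.t} : Set G))), D.index_T,
    Nat.card_congr (Subgroup.subgroupOfEquivOfLe D.T_le).toEquiv]

theorem card_S : Nat.card (D.S : Subgroup G) = 8 := by
  have : Fact (Nat.Prime 2) := ⟨Nat.prime_two⟩
  obtain ⟨j, hj⟩ := D.S.isPGroup'.exists_card_eq
  have h1 : Nat.card (D.S : Subgroup G) ∣ Nat.card (Subgroup.centralizer ({D.t} : Set G)) := Subgroup.card_dvd_of_le D.S_le
  have h8 : 2 ^ 3 ∣ Nat.card (D.S : Subgroup G) := by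
    refine Sylow.pow_dvd_card_of_pow_dvd_card D.S (dvd_trans ?_ (Subgroup.card_subgroup_dvd_card (Subgroup.centralizer ({D.t} : Set G))))
    rw [D.card_C]
    rcases D.hcard with h | h <;> rw [h] <;> norm_num
  rw [D.card_C, hj] at h1
  rw [hj] at h8 ⊢
  have hj3 : 3 ≤ j := (Nat.pow_dvd_pow_iff_le_right (by norm_num)).mp h8
  by_contra hne
  have hj4 : 4 ≤ j := by
    rcases Nat.lt_or_ge j 4 with h | h
    · exfalso; apply hne; rw [show j = 3 by omega]; norm_num
    · exact h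
  have := (pow_dvd_pow 2 hj4).trans h1
  rcases D.hcard with h | h <;> rw [h] at this <;> norm_num at this

theorem S_sq {x : G} (hx : x ∈ (D.S : Subgroup G)) : x * x = 1 := by
  have key : ∀ y ∈ D.T, (∃ i : ℕ, y ^ 2 ^ i = 1) → y * y = 1 := by
    rintro y hy ⟨i, hi⟩
    by_contra hne
    classical
    have hex : ∃ i, y ^ 2 ^ i = 1 := ⟨i, hi⟩
    obtain ⟨l, hl⟩ : ∃ l, Nat.find hex = l + 1 := by
      rcases Nat.eq_zero_or_pos (Nat.find hex) with h0 | h0
      · exfalso
        have := Nat.find_spec hex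
        rw [h0, pow_zero, pow_one] at this
        apply hne; rw [this, one_mul]
      · exact ⟨Nat.find hex - 1, by omega⟩
    have ha1 : y ^ 2 ^ l * y ^ 2 ^ l = 1 := by
      rw [← pow_add, ← two_mul, ← pow_succ', ← hl]
      exact Nat.find_spec hex
    exact hne (D.hexp _ (D.T.pow_mem hy _) ha1 (Nat.find_min hex (by omega)) y hy
      (Commute.self_pow y _).eq)
  obtain ⟨i, hi⟩ := D.S.isPGroup' ⟨x, hx⟩
  have hi' : x ^ 2 ^ i = 1 := congrArg Subtype.val hi
  obtain ⟨y, hy, h | h⟩ := D.decomp (D.S_le hx)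
  · subst h; exact key x hy ⟨i, hi'⟩
  · rw [h, D.sq_eq hy]
    refine key y hy ⟨i + 1, ?_⟩
    rw [h] at hi'
    have h2 : (D.t * y) ^ 2 ^ (i + 1) = 1 := by rw [pow_succ, pow_mul, hi', one_pow]
    rw [(show Commute D.t y from (D.comm_t hy).symm).mul_pow] at h2
    have h3 : D.t ^ 2 ^ (i + 1) = 1 := by
      rw [pow_succ', pow_mul, pow_two, D.t_sq, one_pow]
    rwa [h3, one_mul] at h2

theorem S_comm {x y : G} (hx : x ∈ (D.S : Subgroup G)) (hy : y ∈ (D.S : Subgroup G)) :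
    x * y = y * x := by
  have h := D.S_sq (mul_mem hx hy)
  calc x * y = (x * y)⁻¹ := (inv_eq_of_mul_eq_one_left h).symm
    _ = y⁻¹ * x⁻¹ := mul_inv_rev _ _
    _ = _ := by rw [inv_eq_of_mul_eq_one_left (D.S_sq hy), inv_eq_of_mul_eq_one_left (D.S_sq hx)]

theorem isMulCommutative_S : IsMulCommutative (D.S : Subgroup G) :=
  ⟨⟨fun a b => Subtype.ext (D.S_comm a.2 b.2)⟩⟩

/-- An element commuting with `t` and with an involution of `T` squares to one. -/
theorem cent_inter {x a : G} (hx : x ∈ (Subgroup.centralizer ({D.t} : Set G))) (ha : a ∈ D.T) (ha2 : a * a = 1) (ha1 : a ≠ 1)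
    (hxa : x * a = a * x) : x * x = 1 := by
  obtain ⟨y, hy, h | h⟩ := D.decomp hx
  · subst h; exact D.hexp a ha ha2 ha1 x hy hxa
  · rw [h, D.sq_eq hy]
    refine D.hexp a ha ha2 ha1 y hy ?_
    rw [h, mul_assoc, ← mul_assoc a, D.comm_t ha, mul_assoc] at hxa
    exact mul_left_cancel hxa

theorem relIndex_inter : ((D.S : Subgroup G) ⊓ D.T).relIndex (D.S : Subgroup G) = 2 := by
  rw [Subgroup.relIndex, Subgroup.index_eq_two_iff]
  refine ⟨⟨D.t, D.htS⟩, fun b => ?_⟩
  simp only [Subgroup.mem_subgroupOf, Subgroup.coe_mul, Subgroup.mem_inf]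
  obtain ⟨y, hy, hb | hb⟩ := D.decomp (D.S_le b.2)
  · right
    refine ⟨⟨b.2, hb ▸ hy⟩, fun h => D.t_notMem ?_⟩
    have h' := h.2
    rw [hb] at h'
    have := D.T.mul_mem (D.T.inv_mem hy) h'
    rwa [inv_mul_cancel_left] at this
  · left
    refine ⟨⟨mul_mem b.2 D.htS, ?_⟩, fun h => D.t_notMem ?_⟩
    · rw [hb, mul_assoc, D.comm_t hy, ← mul_assoc, D.t_sq, one_mul]; exact hy
    · have h' := h.2
      rw [hb] at h'
      have := D.T.mul_mem h' (D.T.inv_mem hy)
      rwa [mul_inv_cancel_right] at this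

theorem card_V : Nat.card ((D.S : Subgroup G) ⊓ D.T : Subgroup G) = 4 := by
  have h := Subgroup.relIndex_mul_relIndex (⊥ : Subgroup G) ((D.S : Subgroup G) ⊓ D.T) (D.S : Subgroup G)
    bot_le inf_le_left
  rw [D.relIndex_inter, Subgroup.relIndex_bot_left, Subgroup.relIndex_bot_left, D.card_S] at h
  omega

/-- The two generators of the four group `S ∩ T`. -/
theorem exists_four : ∃ a b : G, (a ∈ (D.S : Subgroup G) ∧ a ∈ D.T ∧ a ≠ 1) ∧
    (b ∈ (D.S : Subgroup G) ∧ b ∈ D.T ∧ b ≠ 1) ∧ a ≠ b := by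
  classical
  set V := (D.S : Subgroup G) ⊓ D.T with hV
  have := Fintype.ofFinite V
  have h4 : Fintype.card V = 4 := by rw [← Nat.card_eq_fintype_card]; exact D.card_V
  have : 1 < ((Finset.univ : Finset V).erase 1).card := by
    rw [Finset.card_erase_of_mem (Finset.mem_univ _), Finset.card_univ, h4]; norm_num
  obtain ⟨a, ha, b, hb, hab⟩ := Finset.one_lt_card.mp this
  refine ⟨a, b, ⟨(Subgroup.mem_inf.mp a.2).1, (Subgroup.mem_inf.mp a.2).2, fun h => ?_⟩,
    ⟨(Subgroup.mem_inf.mp b.2).1, (Subgroup.mem_inf.mp b.2).2, fun h => ?_⟩,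
    fun h => hab (Subtype.ext h)⟩
  · exact (Finset.mem_erase.mp ha).1 (Subtype.ext h)
  · exact (Finset.mem_erase.mp hb).1 (Subtype.ext h)

theorem mem_S_of_centralizes {x : G} (hx : ∀ s ∈ (D.S : Subgroup G), x * s = s * x) :
    x ∈ (D.S : Subgroup G) := by
  have : Fact (Nat.Prime 2) := ⟨Nat.prime_two⟩
  obtain ⟨a, -, ⟨haS, haT, ha1⟩, -⟩ := D.exists_four
  set Z := Subgroup.centralizer ((D.S : Subgroup G) : Set G) with hZdef
  have hZ : ∀ z ∈ Z, z * z = 1 := fun z hz => by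
    have h := Subgroup.mem_centralizer_iff.mp hz
    exact D.cent_inter (D.mem_C.mpr (h _ D.htS).symm) haT (D.S_sq haS) ha1 (h a haS).symm
  have hp : IsPGroup 2 Z := fun z =>
    ⟨1, Subtype.ext (by rw [pow_one, pow_two]; exact hZ z z.2)⟩
  have hle : (D.S : Subgroup G) ≤ Z := fun s hs =>
    Subgroup.mem_centralizer_iff.mpr fun r hr => D.S_comm hr hs
  rw [← D.S.is_maximal' hp hle]
  exact Subgroup.mem_centralizer_iff.mpr fun r hr => (hx r hr).symm

theorem exists_fused : ∃ (g : G) (u : G), u ∈ (D.S : Subgroup G) ∧ u ∈ D.T ∧ g * D.t * g⁻¹ = u := by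
  by_contra hc
  push Not at hc
  obtain ⟨N, hN, hN2, -⟩ := InvChar68.thompson_transfer D.S ((D.S : Subgroup G) ⊓ D.T)
    D.relIndex_inter D.ht D.htS fun g hg hgM => hc g _ hg hgM.2 rfl
  exact D.h2 N hN hN2

/-- Fusion of the Sylow subgroup is realised in its normalizer. -/
theorem fusion {x g : G} (hx : x ∈ (D.S : Subgroup G)) (hy : g * x * g⁻¹ ∈ (D.S : Subgroup G)) :
    ∃ n ∈ Subgroup.normalizer ((D.S : Subgroup G) : Set G), n * x * n⁻¹ = g * x * g⁻¹ := by
  have : Fact (Nat.Prime 2) := ⟨Nat.prime_two⟩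
  have := D.isMulCommutative_S
  obtain ⟨n, hn, h⟩ := D.S.conj_eq_normalizer_conj_of_mem x g⁻¹ hx (by rwa [inv_inv])
  refine ⟨n⁻¹, inv_mem hn, ?_⟩
  rw [inv_inv]
  rw [inv_inv] at h
  exact h.symm

theorem normalizer_conj_t {x : G} (hx : x ∈ (D.S : Subgroup G)) (hx1 : x ≠ 1) :
    ∃ n ∈ Subgroup.normalizer ((D.S : Subgroup G) : Set G), n * D.t * n⁻¹ = x := by
  classical
  set N := Subgroup.normalizer ((D.S : Subgroup G) : Set G) with hN
  let O : Set G := {x | ∃ n ∈ N, n * D.t * n⁻¹ = x}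
  have hOS : ∀ x ∈ O, x ∈ (D.S : Subgroup G) ∧ x ≠ 1 := by
    rintro _ ⟨n, hn, rfl⟩
    exact ⟨(Subgroup.mem_normalizer_iff.mp hn _).mp D.htS, conj_ne_one n _ D.t_ne⟩
  have htO : D.t ∈ O := ⟨1, one_mem _, by group⟩
  have hclose : ∀ x ∈ O, ∀ g : G, g * x * g⁻¹ ∈ (D.S : Subgroup G) → g * x * g⁻¹ ∈ O := by
    intro x hx g hg
    obtain ⟨m, hm, hm'⟩ := D.fusion (hOS x hx).1 hg
    obtain ⟨n, hn, rfl⟩ := hx
    exact ⟨m * n, mul_mem hm hn, by rw [← hm']; group⟩
  obtain ⟨g, u, huS, huT, hu⟩ := D.exists_fused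
  have huO : u ∈ O := hu ▸ hclose _ htO g (by rwa [hu])
  have hVO : ∀ v ∈ (D.S : Subgroup G), v ∈ D.T → v ≠ 1 → v ∈ O := by
    intro v hvS hvT hv1
    obtain ⟨y, -, hy⟩ := D.hconjT u huT (D.S_sq huS) (hOS u huO).2 v hvT (D.S_sq hvS) hv1
    exact hy ▸ hclose u huO y (hy ▸ hvS)
  -- the orbit has odd size
  have hodd : Odd O.ncard := by
    have : Fact (Nat.Prime 2) := ⟨Nat.prime_two⟩
    set H := (Subgroup.centralizer ({D.t} : Set G)).subgroupOf N with hH
    have hcount : H.index = O.ncard := by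
      let f : N ⧸ H → O := fun q => ⟨(q.out : G) * D.t * (q.out : G)⁻¹, _, q.out.2, rfl⟩
      have hf : Function.Bijective f := by
        constructor
        · intro q r h
          have h' : (q.out : G) * D.t * (q.out : G)⁻¹ = (r.out : G) * D.t * (r.out : G)⁻¹ :=
            congrArg Subtype.val h
          rw [← QuotientGroup.out_eq' q, ← QuotientGroup.out_eq' r, QuotientGroup.eq]
          refine D.mem_C.mpr ?_
          show (q.out : G)⁻¹ * r.out * D.t = D.t * ((q.out : G)⁻¹ * r.out)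
          calc (q.out : G)⁻¹ * r.out * D.t = (q.out : G)⁻¹ * ((r.out : G) * D.t * (r.out : G)⁻¹) * r.out := by
                group
            _ = _ := by rw [← h']; group
        · rintro ⟨x, n, hn, rfl⟩
          refine ⟨QuotientGroup.mk ⟨n, hn⟩, Subtype.ext ?_⟩
          show (_ : G) * D.t * (_ : G)⁻¹ = _
          obtain ⟨⟨c, hc⟩, e⟩ := QuotientGroup.mk_out_eq_mul H ⟨n, hn⟩
          rw [e]
          simp only [Subgroup.coe_mul]
          have hc' : (c : G) * D.t = D.t * c := D.mem_C.mp hc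
          rw [mul_inv_rev, show n * (c : G) * D.t * ((c : G)⁻¹ * n⁻¹) = n * ((c : G) * D.t * (c : G)⁻¹) * n⁻¹ by group,
            hc', mul_inv_cancel_right]
      rw [Subgroup.index, ← Nat.card_coe_set_eq]
      exact Nat.card_congr (Equiv.ofBijective f hf)
    rw [← hcount, ← Nat.not_even_iff_odd, even_iff_two_dvd]
    intro hd
    have h1 : H.index * Nat.card H = Nat.card N := H.index_mul_card
    have hSH : (D.S : Subgroup G).subgroupOf N ≤ H := Subgroup.comap_mono D.S_le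
    have h8 : 8 ∣ Nat.card H := by
      have := Subgroup.card_dvd_of_le hSH
      rwa [Nat.card_congr (Subgroup.subgroupOfEquivOfLe Subgroup.le_normalizer).toEquiv,
        D.card_S] at this
    have h16 : 2 ^ 4 ∣ Nat.card G := by
      refine dvd_trans ?_ (Subgroup.card_subgroup_dvd_card N)
      rw [← h1]
      exact Nat.mul_dvd_mul (a := 2) hd h8
    have := Sylow.pow_dvd_card_of_pow_dvd_card D.S h16
    rw [D.card_S] at this
    norm_num at this
  -- conclusion
  obtain ⟨y, hy, hxy | hxy⟩ := D.decomp (D.S_le hx)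
  · exact hVO x hx (hxy ▸ hy) hx1
  by_cases hy1 : y = 1
  · rw [hxy, hy1, mul_one]; exact htO
  have hyS : y ∈ (D.S : Subgroup G) := by
    have := mul_mem (inv_mem D.htS) hx
    rwa [hxy, inv_mul_cancel_left] at this
  by_cases hex : ∃ z ∈ D.T, z ≠ 1 ∧ D.t * z ∈ O
  · obtain ⟨z, hzT, hz1, hzO⟩ := hex
    have hzS : z ∈ (D.S : Subgroup G) := by
      have := mul_mem (inv_mem D.htS) (hOS _ hzO).1
      rwa [inv_mul_cancel_left] at this
    obtain ⟨w, hw, hwz⟩ := D.hconjT z hzT (D.S_sq hzS) hz1 y hy (D.S_sq hyS) hy1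
    have e : w * (D.t * z) * w⁻¹ = x := by
      rw [hxy, ← hwz, show w * (D.t * z) * w⁻¹ = (w * D.t) * z * w⁻¹ by group, D.comm_t hw]; group
    exact e ▸ hclose _ hzO w (e ▸ hx)
  push Not at hex
  exfalso
  have hO : O = insert D.t ((((D.S : Subgroup G) ⊓ D.T : Subgroup G) : Set G) \ {1}) := by
    ext z
    constructor
    · intro hz
      obtain ⟨z', hz', h | h⟩ := D.decomp (D.S_le (hOS z hz).1)
      · exact Or.inr ⟨⟨(hOS z hz).1, h ▸ hz'⟩, (hOS z hz).2⟩
      · by_cases h1 : z' = 1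
        · left; rw [h, h1, mul_one]
        · exact absurd (h ▸ hz) (hex z' hz' h1)
    · rintro (rfl | ⟨⟨hzS, hzT⟩, hz1⟩)
      · exact htO
      · exact hVO z hzS hzT hz1
  have h4 : ((((D.S : Subgroup G) ⊓ D.T : Subgroup G) : Set G)).ncard = 4 := by
    rw [← Nat.card_coe_set_eq]; exact D.card_V
  rw [hO, Set.ncard_insert_of_notMem (fun h => D.t_notMem h.1.2) (Set.toFinite _),
    Set.ncard_sdiff_singleton_of_mem (Subgroup.one_mem _), h4] at hodd
  exact absurd hodd (by decide)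

/-- All involutions are conjugate to `t`. -/
theorem conj_t {v : G} (h : v * v = 1) (h1 : v ≠ 1) : ∃ g : G, g * v * g⁻¹ = D.t := by
  have : Fact (Nat.Prime 2) := ⟨Nat.prime_two⟩
  have hp : IsPGroup 2 (Subgroup.zpowers v) := IsPGroup.of_card (n := 1) (by
    rw [Nat.card_zpowers, orderOf_eq_two' h h1, pow_one])
  obtain ⟨R, hR⟩ := hp.exists_le_sylow
  obtain ⟨g, hg⟩ := MulAction.exists_smul_eq G R D.S
  have hgv : g * v * g⁻¹ ∈ (D.S : Subgroup G) := by
    rw [← hg, Sylow.coe_subgroup_smul]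
    exact Subgroup.smul_mem_pointwise_smul v _ _ (hR (Subgroup.mem_zpowers v))
  obtain ⟨n, -, hnx⟩ := D.normalizer_conj_t hgv (conj_ne_one g v h1)
  refine ⟨n⁻¹ * g, ?_⟩
  calc n⁻¹ * g * v * (n⁻¹ * g)⁻¹ = n⁻¹ * (g * v * g⁻¹) * n := by group
    _ = _ := by rw [← hnx]; group

/-- An odd-order subgroup normalized by `S` is trivial. -/
theorem eq_bot_of_odd (K : Subgroup G) (hK : Odd (Nat.card K))
    (hn : ∀ s ∈ (D.S : Subgroup G), ∀ x ∈ K, s * x * s ∈ K) : K = ⊥ := by
  obtain ⟨a, b, ⟨haS, haT, ha1⟩, ⟨hbS, hbT, hb1⟩, hab⟩ := D.exists_four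
  have hab1 : a * b ≠ 1 := fun h => hab (by
    rw [← inv_eq_of_mul_eq_one_left (D.S_sq hbS)]; exact eq_inv_of_mul_eq_one_left h)
  -- the general step: two involutions with trivial fixed points
  have step : ∀ L : Subgroup G, Odd (Nat.card L) →
      (∀ s ∈ (D.S : Subgroup G), ∀ x ∈ L, s * x * s ∈ L) →
      (∀ v ∈ [a, b, a * b], ∀ x ∈ L, v * x = x * v → x = 1) → L = ⊥ := by
    intro L hL hLn hfix
    rw [eq_bot_iff]
    intro x hx
    refine Subgroup.mem_bot.mpr (hfix (a * b) (by simp) x hx ?_)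
    have ia := inverts_of_fixed_trivial hL (D.S_sq haS) (hLn a haS) (hfix a (by simp))
    have ib := inverts_of_fixed_trivial hL (D.S_sq hbS) (hLn b hbS) (hfix b (by simp))
    have e : a * b * x * (b * a) = x := by
      rw [show a * b * x * (b * a) = a * (b * x * b) * a by group, ib x hx, ia _ (L.inv_mem hx),
        inv_inv]
    calc a * b * x = a * b * x * (b * a) * (a * b) := by
          rw [show a * b * x * (b * a) * (a * b) = a * b * x * (b * (a * a) * b) by group,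
            D.S_sq haS, mul_one, D.S_sq hbS, mul_one]
      _ = _ := by rw [e]
  have habS : a * b ∈ (D.S : Subgroup G) := mul_mem haS hbS
  have habT : a * b ∈ D.T := mul_mem haT hbT
  have base : ∀ L : Subgroup G, Odd (Nat.card L) →
      (∀ s ∈ (D.S : Subgroup G), ∀ x ∈ L, s * x * s ∈ L) → ∀ x ∈ L, D.t * x = x * D.t → x = 1 := by
    intro L hL hLn x hx hxt
    have hL' : L ⊓ (Subgroup.centralizer ({D.t} : Set G)) = ⊥ := by
      refine step _ (hL.of_dvd_nat (Subgroup.card_dvd_of_le inf_le_left)) (fun s hs y hy =>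
        ⟨hLn s hs y hy.1, mul_mem (mul_mem (D.S_le hs) hy.2) (D.S_le hs)⟩) fun v hv y hy hvy => ?_
      have hv' : v ∈ D.T ∧ v * v = 1 ∧ v ≠ 1 := by
        simp only [List.mem_cons, List.mem_nil_iff, or_false] at hv
        rcases hv with rfl | rfl | rfl
        · exact ⟨haT, D.S_sq haS, ha1⟩
        · exact ⟨hbT, D.S_sq hbS, hb1⟩
        · exact ⟨habT, D.S_sq habS, hab1⟩
      exact eq_one_of_sq hL hy.1 (D.cent_inter hy.2 hv'.1 hv'.2.1 hv'.2.2 hvy.symm)
    have : x ∈ L ⊓ (Subgroup.centralizer ({D.t} : Set G)) := ⟨hx, D.mem_C.mpr hxt.symm⟩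
    rw [hL'] at this
    exact this
  refine step K hK hn fun v hv x hx hvx => ?_
  have hv' : v ∈ (D.S : Subgroup G) ∧ v ≠ 1 := by
    simp only [List.mem_cons, List.mem_nil_iff, or_false] at hv
    rcases hv with rfl | rfl | rfl
    · exact ⟨haS, ha1⟩
    · exact ⟨hbS, hb1⟩
    · exact ⟨habS, hab1⟩
  obtain ⟨n, hn', hnt⟩ := D.normalizer_conj_t hv'.1 hv'.2
  -- transport along `n`
  let e := (MulAut.conj n⁻¹).toMonoidHom
  have he : ∀ z, e z = n⁻¹ * z * n := fun z => by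
    simp [e, MulAut.conj_apply]
  have h1 := base (K.map e)
    (by rwa [Subgroup.card_map_of_injective (MulAut.conj n⁻¹).injective])
    (fun s hs z hz => by
      obtain ⟨y, hy, rfl⟩ := Subgroup.mem_map.mp hz
      have hs' : n * s * n⁻¹ ∈ (D.S : Subgroup G) := (Subgroup.mem_normalizer_iff.mp hn' _).mp hs
      refine Subgroup.mem_map.mpr ⟨_, hn _ hs' y hy, ?_⟩
      rw [he, he]; group)
    (e x) (Subgroup.mem_map_of_mem _ hx) (by
      rw [he, ← mul_right_inj n, ← mul_left_inj n⁻¹]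
      calc n * (D.t * (n⁻¹ * x * n)) * n⁻¹ = (n * D.t * n⁻¹) * x := by group
        _ = x * (n * D.t * n⁻¹) := by rw [hnt, hvx]
        _ = _ := by group)
  rw [he] at h1
  calc x = n * (n⁻¹ * x * n) * n⁻¹ := by group
    _ = _ := by rw [h1]; group

end Setup

end Cfsg.Agent.Blocks88.TwoByAlt
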